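import Cfsg.Agent.H24.U6.Whole
import Cfsg.Agent.H7.TT.TwoCore
import Cfsg.Agent.H50.Simple

/-!
Recognition of the unitary group in dimension six over four elements from the local data at an
involution.
-/

set_option autoImplicit false
set_option linter.unusedSectionVars false
set_option linter.style.haveILetI false

namespace H24.U6

open H16.U6 H7.TT H99

universe u

variable {X : Type u} [Group X] [Finite X] {z : X}

theorem mem_center_of_class (E : Views z) {g : X} (h : ∀ d, IsConj z d → Commute g d) :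
    g ∈ Subgroup.center X := by
  rw [Subgroup.mem_center_iff]
  intro x
  have hx : x ∈ Subgroup.centralizer ({g} : Set X) := by
    have hle : Subgroup.closure (conjugatesOf z) ≤ Subgroup.centralizer ({g} : Set X) := by
      rw [Subgroup.closure_le]
      exact fun d hd => Subgroup.mem_centralizer_singleton_iff.2 (h d hd).symm.eq
    exact hle (closure_class E ▸ Subgroup.mem_top x)
  exact Subgroup.mem_centralizer_singleton_iff.1 hx

theorem braid_false (E : Views z) {b d : X} (hb : IsConj z b) (hn : Near b d)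
    (hc : ¬ Commute b d) : (b * d) ∉ Subgroup.center X := by
  intro h
  have hd := near_class hb hn
  have := (Subgroup.mem_center_iff.1 h b)
  rw [← mul_assoc, mul_self_class E hb, one_mul] at this
  apply hc
  show b * d = d * b
  calc b * d = b * d * (b * b) := by rw [mul_self_class E hb, mul_one]
    _ = b * d * b * b := by group
    _ = d * b := by rw [← this]

/-- a normal subgroup with central commutators is central -/
theorem normal_le_center (E : Views z) (N : Subgroup X) [N.Normal]
    (h : ⁅N, N⁆ ≤ Subgroup.center X) : N ≤ Subgroup.center X := by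
  -- no product of two commuting members is in `N`
  have hpair : ∀ a b, IsConj z a → b ∈ Perp a → a * b ∉ N := by
    intro a b ha hb hab
    have hbz := perp_class ha hb
    obtain ⟨f, L⟩ := E a ha
    obtain ⟨r, hr1, hr2⟩ := exists_far (f b)
    obtain ⟨d, hd, rfl⟩ := L.surj r
    have hdb : ¬ Commute d b := fun e => by
      rcases (L.commute_iff d hd b hb).1 e with h' | h'
      exacts [hr1 h', hr2 (adj_symm _ _ h')]
    have hdz := perp_class ha hd
    set b' := d * b * d⁻¹ with hb'
    have hb'z : IsConj z b' := hbz.trans (isConj_iff.2 ⟨d, rfl⟩)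
    have hab' : a * b' ∈ N := by
      have h1 := Subgroup.Normal.conj_mem ‹N.Normal› _ hab d
      rwa [show d * (a * b) * d⁻¹ = d * a * d⁻¹ * (d * b * d⁻¹) by group, hd.2.2.eq,
        mul_inv_cancel_right] at h1
    have hn : Near b d := near_trans E hbz (near_of_perp (perp_symm hb)) (near_of_perp hd)
    have hbraid := braid_eq E hbz hn fun e => hdb e.symm
    have hdi : d⁻¹ = d := inv_eq_of_mul_eq_one_right (mul_self_class E hdz)
    have hcb : Commute a b' := by
      have := (hb.2.2.symm).map (MulAut.conj d).toMonoidHom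
      simpa [hb', hd.2.2.eq] using this
    have hbb' : ¬ Commute b b' := by
      intro e
      rw [hb', hdi, ← hbraid] at e
      apply hdb
      have e1 := e.eq
      have bb := mul_self_class E hbz
      rw [show b * (b * d * b) = (b * b) * d * b by group, bb, one_mul,
        show b * d * b * b = b * d * (b * b) by group, bb, mul_one] at e1
      exact e1
    have hnb : Near b b' := near_trans E hbz (near_of_perp (perp_symm hb))
      (near_of_perp (perp_of ha hb'z (fun e' => hbb' (e' ▸ hb.2.2)) hcb.symm))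
    have h3 : b * b' ∈ N ∧ ((b * b') * (b * b')) ∈ Subgroup.center X := by
      have e1 : (a * b) * (a * b') = b * b' := by
        rw [show a * b * (a * b') = a * (b * a) * b' by group, hb.2.2.eq, ← mul_assoc a a b,
          mul_self_class E ha, one_mul]
      refine ⟨e1 ▸ mul_mem hab hab', h ?_⟩
      have hc := Subgroup.commutator_mem_commutator hab hab'
      have i1 : (a * b)⁻¹ = a * b := by
        rw [mul_inv_rev, inv_eq_of_mul_eq_one_right (mul_self_class E ha),
          inv_eq_of_mul_eq_one_right (mul_self_class E hbz), hb.2.2.eq]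
      have i2 : (a * b')⁻¹ = a * b' := by
        rw [mul_inv_rev, inv_eq_of_mul_eq_one_right (mul_self_class E ha),
          inv_eq_of_mul_eq_one_right (mul_self_class E hb'z), hcb.eq]
      rw [commutatorElement_def, i1, i2,
        show a * b * (a * b') * (a * b) * (a * b') = a * b * (a * b') * (a * b * (a * b')) by group,
        e1] at hc
      exact hc
    have h4 := near_braid E hbz hnb hbb'
    have h5 : b * b' = (b * b') * (b * b') * ((b * b') * (b * b')) := by
      have h6 : (b * b') * (b * b') * ((b * b') * (b * b')) = (b * b') ^ 3 * (b * b') := by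
        simp only [pow_succ, pow_zero, one_mul, mul_assoc]
      rw [h6, h4, one_mul]
    exact braid_false E hbz hnb hbb' (h5 ▸ mul_mem h3.2 h3.2)
  intro n hn
  refine mem_center_of_class E fun a ha => ?_
  by_contra hc
  set a' := n * a * n⁻¹ with ha'
  have haa := mul_self_class E ha
  have ha'z : IsConj z a' := ha.trans (isConj_iff.2 ⟨n, rfl⟩)
  have hmem : a * a' ∈ N := by
    have h1 := mul_mem (Subgroup.Normal.conj_mem ‹N.Normal› _ hn a) (inv_mem hn)
    rwa [inv_eq_of_mul_eq_one_right haa, show a * n * a * n⁻¹ = a * (n * a * n⁻¹) by group] at h1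
  have hne : a' ≠ a := fun e => hc (by
    have := congrArg (· * n) e
    simpa [ha', mul_assoc, Commute, SemiconjBy] using this)
  by_cases hcomm : Commute a a'
  · exact hpair a a' ha (perp_of ha ha'z hne hcomm.symm) hmem
  -- an odd product in `N` gives an even one
  have hnear : Near a a' := near_trans E ha (near_all E ha) (near_symm (near_all E ha'z))
  obtain ⟨f, L⟩ := E a ha
  obtain ⟨d, ⟨hd, -⟩, hdne⟩ : ∃ d, (d ∈ Perp a ∧ f d = 0) ∧ ¬ Commute d a' := by
    by_contra hno
    push Not at hno
    have hu := one_per_point E L ha hnear (fun e => hcomm e.symm) 0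
    have hsub : {x ∈ Perp a | f x = 0} ⊆ {hu.exists.choose} := fun x hx =>
      hu.unique ⟨hx.1, hx.2, hno x ⟨hx.1, hx.2⟩⟩ hu.exists.choose_spec
    have := Set.ncard_le_ncard hsub
    rw [L.card_fibre, Set.ncard_singleton] at this
    omega
  have hdz := perp_class ha hd
  have hdi : d⁻¹ = d := inv_eq_of_mul_eq_one_right (mul_self_class E hdz)
  have hn' : Near d a' := near_trans E hdz (near_of_perp (perp_symm hd)) hnear
  have hbr := braid_eq E hdz hn' hdne
  have h1 : a * (d * a' * d) ∈ N := by
    have h2 := Subgroup.Normal.conj_mem ‹N.Normal› _ hmem d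
    rwa [show d * (a * a') * d⁻¹ = d * a * a' * d⁻¹ by group, hd.2.2.eq, hdi,
      show a * d * a' * d = a * (d * a' * d) by group] at h2
  refine hpair a d ha hd ?_
  have a'a' := mul_self_class E ha'z
  have h2 : d * a' ∈ N := by
    have h3 := mul_mem (inv_mem hmem) h1
    rwa [mul_inv_rev, inv_eq_of_mul_eq_one_right haa, inv_eq_of_mul_eq_one_right a'a',
      show a' * a * (a * (d * a' * d)) = a' * (a * a) * (d * a' * d) by group, haa, mul_one, hbr,
      show a' * (a' * d * a') = a' * a' * d * a' by group, a'a', one_mul] at h3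
  have h4 := mul_mem hmem (inv_mem h2)
  rwa [mul_inv_rev, hdi, inv_eq_of_mul_eq_one_right a'a',
    show a * a' * (a' * d) = a * (a' * a') * d by group, a'a', mul_one] at h4

/-- the group modulo its centre -/
abbrev Q (X : Type u) [Group X] := X ⧸ Subgroup.center X

/-- the projection -/
abbrev π : X →* Q X := QuotientGroup.mk' (Subgroup.center X)

theorem π_eq_one {x : X} : π x = 1 ↔ x ∈ Subgroup.center X := QuotientGroup.eq_one_iff x

theorem π_commute (E : Views z) {x y : X} (hx : IsConj z x) (hy : IsConj z y) :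
    Commute (π x) (π y) ↔ Commute x y := by
  refine ⟨fun h => ?_, fun h => h.map π⟩
  by_contra hc
  have hn : Near x y := near_trans E hx (near_all E hx) (near_symm (near_all E hy))
  refine braid_false E hx hn hc (π_eq_one.1 ?_)
  have h3 : π ((x * y) ^ 3) = 1 := by rw [near_braid E hx hn hc, map_one]
  have h2 : π x * π y * (π x * π y) = 1 := by
    rw [mul_assoc, ← mul_assoc (π y), ← h.eq, mul_assoc (π x) (π y) (π y), ← map_mul π y y,
      mul_self_class E hy, map_one, mul_one, ← map_mul, mul_self_class E hx, map_one]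
  rw [pow_succ, pow_two, map_mul, map_mul, map_mul, h2, one_mul] at h3
  rw [map_mul, h3]

theorem π_inj (E : Views z) {x y : X} (hx : IsConj z x) (hy : IsConj z y) (h : π x = π y) :
    x = y := by
  by_contra hne
  have hxy : x * y ∈ Subgroup.center X := π_eq_one.1 (by
    rw [map_mul, h, ← map_mul, mul_self_class E hy, map_one])
  by_cases hc : Commute x y
  · have hyp : y ∈ Perp x := perp_of hx hy (Ne.symm hne) hc.symm
    obtain ⟨f, L⟩ := E x hx
    obtain ⟨r, hr1, hr2⟩ := exists_far (f y)
    obtain ⟨d, hd, rfl⟩ := L.surj r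
    have h1 : Commute d (x * y) := Subgroup.mem_center_iff.1 hxy d
    have h2 := (hd.2.2).mul_right h1
    rw [← mul_assoc, mul_self_class E hx, one_mul] at h2
    rcases (L.commute_iff d hd y hyp).1 h2 with h' | h'
    exacts [hr1 h', hr2 (adj_symm _ _ h')]
  · exact hc ((π_commute E hx hy).1 (h ▸ Commute.refl _))

theorem conj_lift {q : Q X} (h : IsConj (π z) q) : ∃ x, IsConj z x ∧ π x = q := by
  obtain ⟨g, rfl⟩ := isConj_iff.1 h
  obtain ⟨g, rfl⟩ := QuotientGroup.mk'_surjective (Subgroup.center X) g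
  exact ⟨g * z * g⁻¹, isConj_iff.2 ⟨g, rfl⟩, by simp⟩

theorem mem_classQ {q : Q X} : q ∈ conjugatesOf (π z) ↔ ∃ x, IsConj z x ∧ π x = q := by
  refine ⟨conj_lift, ?_⟩
  rintro ⟨x, hx, rfl⟩
  exact π.map_isConj hx

theorem classQ (E : Views z) : Cfsg.IsThreeTranspositionClass (conjugatesOf (π z)) := by
  have T := three_transposition E
  refine ⟨⟨fun d hd => ?_, fun d hd e he => ?_⟩, ⟨π z, mem_conjugatesOf_self, rfl⟩, ?_⟩
  · obtain ⟨x, hx, rfl⟩ := mem_classQ.1 hd
    refine orderOf_eq_prime (by rw [← map_pow, pow_two, mul_self_class E hx, map_one]) fun h => ?_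
    -- a central member would be the only one
    have hc : x ∈ Subgroup.center X := π_eq_one.1 h
    obtain ⟨f, L⟩ := E x hx
    obtain ⟨b, hb, -⟩ := L.surj 0
    obtain ⟨g, hg⟩ := isConj_iff.1 hb.1
    rw [Subgroup.mem_center_iff.1 hc g, mul_inv_cancel_right] at hg
    exact hb.2.1 hg.symm
  · obtain ⟨x, hx, rfl⟩ := mem_classQ.1 hd
    obtain ⟨y, hy, rfl⟩ := mem_classQ.1 he
    rcases T.1.2 x hx y hy with h | h
    · exact Or.inl (by rw [← map_mul, ← map_pow, h, map_one])
    · exact Or.inr (by rw [← map_mul, ← map_pow, h, map_one])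
  · rw [eq_top_iff, ← MonoidHom.range_eq_top.2 (QuotientGroup.mk'_surjective (Subgroup.center X)),
      MonoidHom.range_eq_map, ← closure_class E, MonoidHom.map_closure]
    refine Subgroup.closure_mono ?_
    rintro _ ⟨x, hx, rfl⟩
    exact mem_classQ.2 ⟨x, hx, rfl⟩

theorem perfectQ (E : Views z) : commutator (Q X) = ⊤ := by
  have h : (commutator X).map π = ⊤ := by
    rw [perfect E, ← MonoidHom.range_eq_map]
    exact MonoidHom.range_eq_top.2 (QuotientGroup.mk'_surjective _)
  rw [eq_top_iff, ← h, commutator_def, Subgroup.map_commutator, commutator_def]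
  exact Subgroup.commutator_mono le_top le_top

theorem solvable_trivial (E : Views z) :
    ∀ N : Subgroup (Q X), N.Normal → Group.IsSolvable ↥N → N = ⊥ := by
  have habel : ∀ A : Subgroup (Q X), A.Normal → ⁅A, A⁆ = ⊥ → A = ⊥ := by
    intro A hA hc
    haveI : (A.comap π).Normal := Subgroup.Normal.comap hA π
    have hm : (⁅A.comap π, A.comap π⁆).map π = ⊥ := by
      rw [Subgroup.map_commutator, Subgroup.map_comap_eq_self_of_surjective
        (QuotientGroup.mk'_surjective _), hc]
    have h := normal_le_center E (A.comap π) fun x hx =>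
      π_eq_one.1 (Subgroup.mem_bot.1 (hm ▸ Subgroup.mem_map_of_mem π hx))
    rw [eq_bot_iff]
    intro q hq
    obtain ⟨x, rfl⟩ := QuotientGroup.mk'_surjective (Subgroup.center X) q
    exact Subgroup.mem_bot.2 (π_eq_one.2 (h hq))
  intro N hN hs
  obtain ⟨k, hk⟩ := (Group.isSolvable_def _).1 hs
  have main : ∀ (k : ℕ) (M : Subgroup (Q X)), M.Normal →
      (derivedSeries ↥M k).map M.subtype = ⊥ → M = ⊥ := by
    intro k
    induction k with
    | zero =>
      intro M _ h
      rwa [derivedSeries_zero, ← MonoidHom.range_eq_map, Subgroup.range_subtype] at h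
    | succ k ih =>
      intro M hM h
      haveI := hM
      haveI : ((derivedSeries ↥M k).map M.subtype).Normal :=
        ConjAct.normal_of_characteristic_of_normal
      rw [derivedSeries_succ, Subgroup.map_commutator] at h
      exact ih M hM (habel _ inferInstance h)
  exact main k N hN (by rw [hk, Subgroup.map_bot])

theorem perpQ (E : Views z) {x : X} (hx : IsConj z x) {q : Q X} :
    q ∈ perp (conjugatesOf (π z)) (π x) ↔ ∃ a, a ∈ Perp x ∧ π a = q := by
  constructor
  · rintro ⟨h1, h2, h3⟩
    obtain ⟨a, ha, rfl⟩ := mem_classQ.1 h1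
    exact ⟨a, perp_of hx ha (fun e => h2 (by rw [e])) ((π_commute E hx ha).1 h3).symm, rfl⟩
  · rintro ⟨a, ha, rfl⟩
    exact ⟨mem_classQ.2 ⟨a, perp_class hx ha, rfl⟩,
      fun e => ha.2.1 (π_inj E (perp_class hx ha) hx e), ha.2.2.symm.map π⟩

theorem lineQ (E : Views z) {x a : X} {f : X → Fin 45} (L : Loc x f) (hx : IsConj z x)
    (ha : a ∈ Perp x) {c : Q X} :
    c ∈ line (conjugatesOf (π z)) (π x) (π a) ↔
      c = π x ∨ ∃ b, b ∈ Perp x ∧ f b = f a ∧ π b = c := by
  have haz := perp_class hx ha
  constructor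
  · rintro ⟨h1, h2⟩
    obtain ⟨b, hb, rfl⟩ := mem_classQ.1 h1
    by_cases e : b = x
    · exact Or.inl (by rw [e])
    refine Or.inr ⟨b, ?_⟩
    have hcx : Commute x b := (π_commute E hx hb).1 (h2 _ (mem_classQ.2 ⟨x, hx, rfl⟩)
      (Commute.refl _) (ha.2.2.symm.map π))
    have hbp : b ∈ Perp x := perp_of hx hb e hcx.symm
    refine ⟨hbp, (eq_of_sub fun r hr => ?_).symm, rfl⟩
    obtain ⟨w, hw, rfl⟩ := L.surj r
    exact (L.commute_iff w hw b hbp).1 ((π_commute E (perp_class hx hw) hb).1
      (h2 _ (mem_classQ.2 ⟨w, perp_class hx hw, rfl⟩) (hw.2.2.map π)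
        (((L.commute_iff w hw a ha).2 hr).map π)))
  · rintro (rfl | ⟨b, hb, hba, rfl⟩)
    · exact line_left (mem_classQ.2 ⟨x, hx, rfl⟩)
    refine ⟨mem_classQ.2 ⟨b, perp_class hx hb, rfl⟩, fun q hq q1 q2 => ?_⟩
    obtain ⟨w, hw, rfl⟩ := mem_classQ.1 hq
    refine Commute.map ?_ π
    by_cases e : w = x
    · exact e ▸ hb.2.2.symm
    have hwp : w ∈ Perp x := perp_of hx hw e ((π_commute E hw hx).1 q1)
    rw [L.commute_iff w hwp b hb, hba, ← L.commute_iff w hwp a ha]
    exact (π_commute E hw haz).1 q2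

theorem fivePt (E : Views z) : FivePt (conjugatesOf (π z)) := by
  intro q hq q' hq'
  obtain ⟨x, hx, rfl⟩ := mem_classQ.1 hq
  obtain ⟨a, ha, rfl⟩ := (perpQ E hx).1 hq'
  obtain ⟨f, L⟩ := E x hx
  obtain ⟨b, ⟨hb, hba⟩, hne⟩ := Set.exists_ne_of_one_lt_ncard
    (s := {w ∈ Perp x | f w = f a}) (by rw [L.card_fibre]; norm_num) a
  obtain ⟨u, v, hu, hv, hua, hva, huv, hu1, hu2, hv1, hv2, h5, hall⟩ :=
    exists_rest L ha hb hne.symm hba.symm
  have hl : ∀ {w}, w ∈ Perp x → f w = f a → π w ∈ line (conjugatesOf (π z)) (π x) (π a) :=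
    fun hw hwa => (lineQ E L hx ha).2 (Or.inr ⟨_, hw, hwa, rfl⟩)
  refine ⟨π b, π u, π v, hl hb hba, hl hu hua, hl hv hva, ?_, ?_, ?_⟩
  · have hnd : ([x, a, b, u, v] : List X).Nodup := by
      simp [ha.2.1.symm, hb.2.1.symm, hu.2.1.symm, hv.2.1.symm, hne.symm, hu1.symm, hv1.symm,
        hu2.symm, hv2.symm, huv]
    have hz' : ∀ w ∈ ([x, a, b, u, v] : List X), IsConj z w := by
      simp only [List.mem_cons, List.not_mem_nil, or_false]
      rintro w (rfl | rfl | rfl | rfl | rfl)
      exacts [hx, perp_class hx ha, perp_class hx hb, perp_class hx hu, perp_class hx hv]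
    exact hnd.map_on fun p hp r hr e => π_inj E (hz' p hp) (hz' r hr) e
  · ext c
    rw [lineQ E L hx ha]
    simp only [Set.mem_insert_iff, Set.mem_singleton_iff]
    constructor
    · rintro (rfl | ⟨w, hw, hwa, rfl⟩)
      · exact Or.inl rfl
      · rcases hall w hw hwa with rfl | rfl | rfl | rfl <;> simp
    · rintro (rfl | rfl | rfl | rfl | rfl)
      exacts [Or.inl rfl, Or.inr ⟨a, ha, rfl, rfl⟩, Or.inr ⟨b, hb, hba, rfl⟩,
        Or.inr ⟨u, hu, hua, rfl⟩, Or.inr ⟨v, hv, hva, rfl⟩]
  · rw [← map_mul, ← map_mul, ← map_mul, ← map_mul,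
      show x * a * b * u * v = x * (a * b * u * v) by group, h5, mul_self_class E hx, map_one]

theorem geo (E : Views z) : Geo (conjugatesOf (π z)) := by
  have hperf : ⁅commutator (Q X), commutator (Q X)⁆ = commutator (Q X) := by
    rw [perfectQ E]; exact perfectQ E
  obtain ⟨hp, hw⟩ := fischer_of_no_solvable (solvable_trivial E) hperf (classQ E)
  refine ⟨classQ E, hp, hw, solvable_trivial E _ inferInstance
    (Group.isSolvable_of_comm fun a b => Subtype.ext (Subgroup.mem_center_iff.1 b.2 a)), ?_⟩
  intro q hq q' hq'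
  obtain ⟨b, c, d, hb, -, -, hnd, -, -⟩ := fivePt E q hq q' hq'
  simp only [List.nodup_cons, List.mem_cons, not_or] at hnd
  exact ⟨b, hb, fun e => hnd.1.2.1 e.symm, fun e => hnd.2.1.1 e.symm⟩

theorem card_GU_le {F : Type} [Field F] [Fintype F] (hF : Fintype.card F = 2 ^ 2) {n m : ℕ}
    (h : n ≤ m) : Nat.card (Cfsg.GU n F 2) ≤ Nat.card (Cfsg.GU m F 2) := by
  rw [H50.card_GU hF, H50.card_GU hF]
  refine Nat.mul_le_mul (Nat.pow_le_pow_right two_pos
    (Nat.div_le_div_right (Nat.mul_le_mul h (by omega)))) ?_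
  induction h with
  | refl => rfl
  | @step m _ ih =>
    rw [Finset.prod_range_succ]
    refine ih.trans (Nat.le_mul_of_pos_right _ ?_)
    split
    · positivity
    · exact Nat.sub_pos_of_lt (Nat.one_lt_two_pow (by omega))

theorem dim_six {F : Type} [Field F] [Fintype F] (hF : Fintype.card F = 2 ^ 2) {n c : ℕ}
    (hn : 4 ≤ n) (hc : c ∣ 2 ^ 9 * 25920)
    (h : c * Nat.card (Cfsg.PSU n F 2) = 693 * (2 ^ 9 * 25920)) : n = 6 := by
  have hg := H50.card_PSU_mul hF (n := n) (by omega)
  have hc0 : 0 < c := Nat.pos_of_ne_zero (by rintro rfl; simp at h)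
  rcases Nat.lt_or_ge n 7 with h7 | h7
  · interval_cases n
    · exfalso
      rw [H50.card_GU hF] at hg
      norm_num [Finset.prod_range_succ, Nat.even_iff] at hg
      have hP : Nat.card (Cfsg.PSU 4 F 2) = 25920 := by omega
      rw [hP] at h
      have : c = 693 * 2 ^ 9 := by omega
      subst this
      norm_num at hc
    · exfalso
      rw [H50.card_GU hF] at hg
      norm_num [Finset.prod_range_succ, Nat.even_iff] at hg
      have hP : Nat.card (Cfsg.PSU 5 F 2) = 13685760 := by omega
      rw [hP] at h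
      have : c = 672 := by omega
      subst this
      norm_num at hc
    · rfl
  · exfalso
    have hle := card_GU_le hF h7
    rw [H50.card_GU hF (n := 7)] at hle
    norm_num [Finset.prod_range_succ, Nat.even_iff] at hle
    have h3 : Nat.gcd n (2 + 1) ≤ 3 := Nat.le_of_dvd (by norm_num) (Nat.gcd_dvd_right n 3)
    have h4 : Nat.card (Cfsg.PSU n F 2) ≤ 693 * (2 ^ 9 * 25920) :=
      le_trans (Nat.le_mul_of_pos_left _ hc0) h.le
    have h5 := Nat.mul_le_mul h3 (Nat.mul_le_mul (le_refl 3) h4)
    simp only [show 2 + 1 = 3 by norm_num] at hg h5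
    omega

/-- the recognition: the group is simple and isomorphic to `PSU 6` over four elements -/
theorem recognition {pt : X → Fin 45} (h : Loc z pt) :
    IsSimpleGroup X ∧ ∃ (F : Type) (_ : Field F) (_ : Fintype F),
      Fintype.card F = 4 ∧ Nonempty (X ≃* Cfsg.PSU 6 F 2) := by
  have E := views_of_loc h
  obtain ⟨F, iF, iF', n, hn, hF, ⟨e⟩⟩ := (geo E).exists_unitary (fivePt E)
  have hF' : Fintype.card F = 2 ^ 2 := by rw [hF]; rfl
  have hmul := Subgroup.card_eq_card_quotient_mul_card_subgroup (Subgroup.center X)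
  rw [card_eq E, Nat.card_congr e.toEquiv,
    mul_comm (Nat.card (Cfsg.PSU n F 2))] at hmul
  have hdvd : Nat.card (Subgroup.center X) ∣ 2 ^ 9 * 25920 := by
    rw [← h.card_centralizer]
    refine Subgroup.card_dvd_of_le fun g hg => ?_
    exact Subgroup.mem_centralizer_singleton_iff.2 (Subgroup.mem_center_iff.1 hg z).symm
  obtain rfl := dim_six hF' hn hdvd hmul.symm
  have h1 : Nat.card (Subgroup.center X) = 1 := by
    have hP : Nat.card (Cfsg.PSU 6 F 2) = 693 * (2 ^ 9 * 25920) := by
      have hg := H50.card_PSU_mul hF' (n := 6) (by norm_num)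
      rw [H50.card_GU hF'] at hg
      norm_num [Finset.prod_range_succ, Nat.even_iff] at hg
      omega
    rw [hP] at hmul
    exact (mul_eq_right₀ (by norm_num)).1 hmul.symm
  have hinj : Function.Bijective (π : X → Q X) := by
    refine ⟨(MonoidHom.ker_eq_bot_iff π).1 ?_, QuotientGroup.mk'_surjective _⟩
    rw [QuotientGroup.ker_mk']
    exact Subgroup.card_eq_one.1 h1
  let iso : X ≃* Cfsg.PSU 6 F 2 := (MulEquiv.ofBijective π hinj).trans e
  haveI := H50.PSU_isSimple (F := F) hF' (n := 6) (by norm_num) (by norm_num)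
  haveI : Nontrivial X := iso.toEquiv.nontrivial
  exact ⟨IsSimpleGroup.isSimpleGroup_of_surjective iso.symm.toMonoidHom iso.symm.surjective,
    F, iF, iF', hF, ⟨iso⟩⟩

end H24.U6
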