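import Cfsg.Agent.H24.U6.Graph

/-!
Lines in a class of involutions which has at each member the local data of the unitary group in
dimension six.
-/

set_option autoImplicit false
set_option linter.unusedSectionVars false

namespace H24.U6

open H16.U6

variable {X : Type*} [Group X]

/-- every conjugate of `z` carries the local data -/
def Views (z : X) : Prop := ∀ a, IsConj z a → ∃ f : X → Fin 45, Loc a f

theorem perp_conj (g : X) {a x : X} (h : x ∈ Perp a) : g * x * g⁻¹ ∈ Perp (g * a * g⁻¹) := by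
  refine ⟨(isConj_iff.2 ⟨g⁻¹, by group⟩ : IsConj (g * a * g⁻¹) a).trans
    (h.1.trans (isConj_iff.2 ⟨g, rfl⟩)), fun e => h.2.1 ?_, ?_⟩
  · exact mul_left_cancel (mul_right_cancel e)
  · exact h.2.2.map (MulAut.conj g).toMonoidHom

theorem perp_conj_iff (g : X) {a x : X} : x ∈ Perp (g * a * g⁻¹) ↔ g⁻¹ * x * g ∈ Perp a := by
  constructor
  · intro h
    have := perp_conj g⁻¹ h
    simpa [mul_assoc] using this
  · intro h
    have := perp_conj g h
    simpa [mul_assoc] using this

theorem perp_symm {a x : X} (h : x ∈ Perp a) : a ∈ Perp x := ⟨h.1.symm, h.2.1.symm, h.2.2.symm⟩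

theorem perp_of {z a x : X} (ha : IsConj z a) (hx : IsConj z x) (hne : x ≠ a) (hc : Commute x a) :
    x ∈ Perp a := ⟨ha.symm.trans hx, hne, hc⟩

theorem conj_inj (g : X) {x y : X} (h : g⁻¹ * x * g = g⁻¹ * y * g) : x = y :=
  mul_left_cancel (mul_right_cancel h)

theorem commute_conj (g x y : X) : Commute (g⁻¹ * x * g) (g⁻¹ * y * g) ↔ Commute x y := by
  constructor
  · intro h
    have := h.map (MulAut.conj g).toMonoidHom
    simpa [mul_assoc] using this
  · intro h
    have := h.map (MulAut.conj g⁻¹).toMonoidHom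
    simpa [mul_assoc] using this

theorem loc_conj {z : X} {pt : X → Fin 45} (h : Loc z pt) (g : X) :
    Loc (g * z * g⁻¹) (fun x => pt (g⁻¹ * x * g)) where
  sq := by rw [show g * z * g⁻¹ * (g * z * g⁻¹) = g * (z * z) * g⁻¹ by group, h.sq]; group
  ne_one e := h.ne_one (by rw [show z = g⁻¹ * (g * z * g⁻¹) * g by group, e]; group)
  surj p := by
    obtain ⟨x, hx, hp⟩ := h.surj p
    exact ⟨g * x * g⁻¹, perp_conj g hx, by simpa [mul_assoc] using hp⟩
  card_fibre p := by
    rw [← h.card_fibre p]
    refine Set.ncard_congr (fun x _ => g⁻¹ * x * g) ?_ ?_ ?_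
    · rintro x ⟨hx, hp⟩; exact ⟨(perp_conj_iff g).1 hx, hp⟩
    · rintro x y - - e; exact conj_inj g e
    · rintro y ⟨hy, hp⟩
      exact ⟨g * y * g⁻¹, ⟨perp_conj g hy, by simpa [mul_assoc] using hp⟩, by group⟩
  commute_iff x hx y hy := by
    rw [← h.commute_iff _ ((perp_conj_iff g).1 hx) _ ((perp_conj_iff g).1 hy), commute_conj]
  braid x hx y hy hc := by
    have := h.braid _ ((perp_conj_iff g).1 hx) _ ((perp_conj_iff g).1 hy)
      (fun h2 => hc ((commute_conj g x y).1 h2))
    rw [show g⁻¹ * x * g * (g⁻¹ * y * g) = g⁻¹ * (x * y) * g⁻¹⁻¹ by group, conj_pow] at this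
    have h2 := congrArg (fun u => g * u * g⁻¹) this
    simpa [mul_assoc] using h2
  five a ha b hb c hc d hd hab hac had hbc hbd hcd p1 p2 p3 := by
    have := h.five _ ((perp_conj_iff g).1 ha) _ ((perp_conj_iff g).1 hb) _ ((perp_conj_iff g).1 hc)
      _ ((perp_conj_iff g).1 hd) (fun e => hab (conj_inj g e)) (fun e => hac (conj_inj g e))
      (fun e => had (conj_inj g e)) (fun e => hbc (conj_inj g e)) (fun e => hbd (conj_inj g e))
      (fun e => hcd (conj_inj g e)) p1 p2 p3
    rw [← this]; group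
  line_symm x hx y hy hne hp k hk := by
    have := h.line_symm _ ((perp_conj_iff g).1 hx) _ ((perp_conj_iff g).1 hy)
      (fun e => hne (conj_inj g e)) hp (g⁻¹ * k * g) (by rw [← hk]; group)
    convert this using 1 <;> congr 1 <;> group
  mul_not_conj x hx y hy hA := by
    obtain ⟨h1, h2⟩ := h.mul_not_conj _ ((perp_conj_iff g).1 hx) _ ((perp_conj_iff g).1 hy) hA
    have key : ∀ u, IsConj (g * z * g⁻¹) u → IsConj z (g⁻¹ * u * g) := fun u hu =>
      ((isConj_iff.2 ⟨g, rfl⟩ : IsConj z (g * z * g⁻¹)).trans hu).trans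
        (isConj_iff.2 ⟨g⁻¹, by group⟩)
    constructor
    · intro e
      refine h1 ?_
      convert key _ e using 1
      group
    · intro e
      refine h2 ?_
      convert key _ e using 1
      group
  card_centralizer := by
    rw [← h.card_centralizer]
    refine Nat.card_congr
      { toFun := fun u => ⟨g⁻¹ * u.1 * g, ?_⟩
        invFun := fun u => ⟨g * u.1 * g⁻¹, ?_⟩
        left_inv := fun u => Subtype.ext (by group)
        right_inv := fun u => Subtype.ext (by group) }
    · have hu := Subgroup.mem_centralizer_singleton_iff.1 u.2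
      refine Subgroup.mem_centralizer_singleton_iff.2 ?_
      have h2 := congrArg (fun v => g⁻¹ * v * g) hu
      simpa [mul_assoc] using h2
    · have hu := Subgroup.mem_centralizer_singleton_iff.1 u.2
      refine Subgroup.mem_centralizer_singleton_iff.2 ?_
      have h2 := congrArg (fun v => g * v * g⁻¹) hu
      simpa [mul_assoc] using h2
  closure_perp := by
    refine le_antisymm ?_ ?_
    · rw [Subgroup.closure_le]
      intro x hx
      exact Subgroup.mem_centralizer_singleton_iff.2 hx.2.2.eq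
    · intro u hu
      have hu' : g⁻¹ * u * g ∈ Subgroup.centralizer ({z} : Set X) := by
        refine Subgroup.mem_centralizer_singleton_iff.2 ?_
        have h2 := congrArg (fun v => g⁻¹ * v * g) (Subgroup.mem_centralizer_singleton_iff.1 hu)
        simpa [mul_assoc] using h2
      have hle : Subgroup.closure (Perp z) ≤
          (Subgroup.closure (Perp (g * z * g⁻¹))).comap (MulAut.conj g).toMonoidHom := by
        rw [Subgroup.closure_le]
        intro x hx
        exact Subgroup.subset_closure (perp_conj g hx)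
      have := hle (h.closure_perp ▸ hu')
      simpa [mul_assoc] using this

theorem views_of_loc {z : X} {pt : X → Fin 45} (h : Loc z pt) : Views z := by
  intro a ha
  obtain ⟨g, rfl⟩ := isConj_iff.1 ha
  exact ⟨_, loc_conj h g⟩

theorem Views.transfer {z a : X} (E : Views z) (ha : IsConj z a) : Views a :=
  fun b hb => E b (ha.trans hb)

/-- two members of the perp of `a` with the same neighbours there -/
def Same (a x y : X) : Prop :=
  x ∈ Perp a ∧ y ∈ Perp a ∧ ∀ w ∈ Perp a, (Commute w x ↔ Commute w y)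

theorem Same.swap {a x y : X} (h : Same a x y) : Same a y x :=
  ⟨h.2.1, h.1, fun w hw => (h.2.2 w hw).symm⟩

theorem Same.trans {a x y w : X} (h : Same a x y) (h' : Same a y w) : Same a x w :=
  ⟨h.1, h'.2.1, fun v hv => (h.2.2 v hv).trans (h'.2.2 v hv)⟩

theorem Same.commute {a x y : X} (h : Same a x y) : Commute x y :=
  (h.2.2 x h.1).1 (Commute.refl x)

theorem Same.conj {a x y : X} (h : Same a x y) (g : X) :
    Same (g * a * g⁻¹) (g * x * g⁻¹) (g * y * g⁻¹) := by
  refine ⟨perp_conj g h.1, perp_conj g h.2.1, fun w hw => ?_⟩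
  have := h.2.2 _ ((perp_conj_iff g).1 hw)
  rw [← commute_conj g w, ← commute_conj g w]
  simpa [mul_assoc] using this

theorem perp_class {z a x : X} (ha : IsConj z a) (hx : x ∈ Perp a) : IsConj z x := ha.trans hx.1

section One

variable {a : X} {f : X → Fin 45}

theorem same_iff (L : Loc a f) {x y : X} (hx : x ∈ Perp a) (hy : y ∈ Perp a) :
    Same a x y ↔ f x = f y := by
  constructor
  · intro h
    refine eq_of_sub fun r hr => ?_
    obtain ⟨w, hw, rfl⟩ := L.surj r
    exact (L.commute_iff w hw y hy).1 ((h.2.2 w hw).1 ((L.commute_iff w hw x hx).2 hr))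
  · intro h
    refine ⟨hx, hy, fun w hw => ?_⟩
    rw [L.commute_iff w hw x hx, L.commute_iff w hw y hy, h]

theorem same_refl {x : X} (hx : x ∈ Perp a) : Same a x x := ⟨hx, hx, fun _ _ => Iff.rfl⟩

theorem commute_of_adj (L : Loc a f) {x y : X} (hx : x ∈ Perp a) (hy : y ∈ Perp a)
    (h : Adj (f x) (f y)) : Commute x y :=
  (L.commute_iff x hx y hy).2 (Or.inr h)

theorem adj_of_commute (L : Loc a f) {x y : X} (hx : x ∈ Perp a) (hy : y ∈ Perp a)
    (h : Commute x y) (hne : f x ≠ f y) : Adj (f x) (f y) :=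
  ((L.commute_iff x hx y hy).1 h).resolve_left hne

theorem ne_of_adj {x y : X} (h : Adj (f x) (f y)) : x ≠ y :=
  fun e => adj_irrefl _ (e ▸ h)

/-- a member over each neighbour of a point, and over a far point -/
theorem exists_adj (L : Loc a f) (p : Fin 45) : ∃ x ∈ Perp a, Adj (f x) p := by
  obtain ⟨r, hr⟩ := exists_nbr p
  obtain ⟨x, hx, hxr⟩ := L.surj r
  exact ⟨x, hx, hxr ▸ adj_symm _ _ hr⟩

/-- the other three members of a fibre -/
theorem exists_rest (L : Loc a f) {x y : X} (hx : x ∈ Perp a) (hy : y ∈ Perp a) (hne : x ≠ y)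
    (hp : f x = f y) : ∃ u v, u ∈ Perp a ∧ v ∈ Perp a ∧ f u = f x ∧ f v = f x ∧ u ≠ v ∧
      u ≠ x ∧ u ≠ y ∧ v ≠ x ∧ v ≠ y ∧ x * y * u * v = a ∧
      ∀ w ∈ Perp a, f w = f x → w = x ∨ w = y ∨ w = u ∨ w = v := by
  classical
  set S := {w ∈ Perp a | f w = f x} with hS
  have hfin : S.Finite := Set.finite_of_ncard_ne_zero (by rw [hS, L.card_fibre]; norm_num)
  have hc : hfin.toFinset.card = 4 := by
    rw [← Set.ncard_eq_toFinset_card S hfin, hS, L.card_fibre]
  have hxS : x ∈ hfin.toFinset := hfin.mem_toFinset.2 ⟨hx, rfl⟩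
  have hyS : y ∈ hfin.toFinset.erase x :=
    Finset.mem_erase.2 ⟨hne.symm, hfin.mem_toFinset.2 ⟨hy, hp.symm⟩⟩
  have hc2 : ((hfin.toFinset.erase x).erase y).card = 2 := by
    rw [Finset.card_erase_of_mem hyS, Finset.card_erase_of_mem hxS, hc]
  obtain ⟨u, v, huv, he⟩ := Finset.card_eq_two.1 hc2
  have hm : ∀ w, w ∈ (hfin.toFinset.erase x).erase y ↔ w ≠ y ∧ w ≠ x ∧ w ∈ Perp a ∧ f w = f x := by
    intro w
    rw [Finset.mem_erase, Finset.mem_erase, hfin.mem_toFinset]
    rfl
  have hu := (hm u).1 (by rw [he]; simp)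
  have hv := (hm v).1 (by rw [he]; simp)
  refine ⟨u, v, hu.2.2.1, hv.2.2.1, hu.2.2.2, hv.2.2.2, huv, hu.2.1, hu.1, hv.2.1, hv.1, ?_, ?_⟩
  · exact L.five x hx y hy u hu.2.2.1 v hv.2.2.1 hne hu.2.1.symm hv.2.1.symm hu.1.symm hv.1.symm
      huv hp hu.2.2.2.symm hv.2.2.2.symm
  · intro w hw hwx
    by_cases h1 : w = x
    · exact Or.inl h1
    by_cases h2 : w = y
    · exact Or.inr (Or.inl h2)
    have := (hm w).2 ⟨h2, h1, hw, hwx⟩
    rw [he] at this
    simpa using Or.inr (Or.inr (by simpa using this))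

end One

section Class

variable {z : X} (E : Views z)
include E

/-- collinearity is symmetric -/
theorem same_rot {a x y : X} (ha : IsConj z a) (h : Same a x y) (hne : x ≠ y) : Same x a y := by
  obtain ⟨f, L⟩ := E a ha
  obtain ⟨g, hg⟩ := isConj_iff.1 h.1.1
  have hy : y ∈ Perp x := ⟨h.1.1.symm.trans h.2.1.1, hne.symm, h.commute.symm⟩
  have L' := loc_conj L g
  rw [hg] at L'
  exact (same_iff L' (perp_symm h.1) hy).2
    (L.line_symm x h.1 y h.2.1 hne ((same_iff L h.1 h.2.1).1 h) g hg)

theorem mul_self_class {a : X} (ha : IsConj z a) : a * a = 1 := by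
  obtain ⟨f, L⟩ := E a ha
  exact L.sq

theorem ne_one_class {a : X} (ha : IsConj z a) : a ≠ 1 := by
  obtain ⟨f, L⟩ := E a ha
  exact L.ne_one


/-- the product of two commuting members is not a member -/
theorem pair_not {a b : X} (ha : IsConj z a) (hb : b ∈ Perp a) : ¬ IsConj z (a * b) := by
  obtain ⟨f, L⟩ := E a ha
  obtain ⟨c, hc, hA⟩ := exists_adj L (f b)
  have hca : IsConj z c := perp_class ha hc
  obtain ⟨k, K⟩ := E c hca
  have hac : a ∈ Perp c := perp_symm hc
  have hbc : b ∈ Perp c :=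
    perp_of hca (perp_class ha hb) (ne_of_adj hA).symm (commute_of_adj L hc hb hA).symm
  have hne : k a ≠ k b := by
    intro e
    have h := same_rot E hca ((same_iff K hac hbc).2 e) hb.2.1.symm
    exact adj_irrefl _ ((same_iff L hc hb).1 h ▸ hA)
  intro h
  exact (K.mul_not_conj a hac b hbc (adj_of_commute K hac hbc hb.2.2.symm hne)).1 (hca.symm.trans h)

/-- the product of three commuting members is not a member -/
theorem triple_not {a b c : X} (ha : IsConj z a) (hb : b ∈ Perp a) (hc : c ∈ Perp a)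
    (hbc : b ≠ c) (hcomm : Commute b c) : ¬ IsConj z (a * b * c) := by
  obtain ⟨f, L⟩ := E a ha
  intro h
  by_cases hp : f b = f c
  · obtain ⟨u, v, hu, hv, hup, hvp, huv, -, -, -, -, h5, -⟩ := exists_rest L hb hc hbc hp
    have huv' : Commute u v := (L.commute_iff u hu v hv).2 (Or.inl (hup.trans hvp.symm))
    have h1 : b * c * (u * v) = a := by rw [← mul_assoc]; exact h5
    have h2 : (u * v) * (u * v) = 1 := by
      rw [mul_assoc, ← mul_assoc v u v, ← huv'.eq, mul_assoc u v v,
        mul_self_class E (perp_class ha hv), mul_one, mul_self_class E (perp_class ha hu)]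
    have h3 : b * c = a * (u * v) := by rw [← h1, mul_assoc, h2, mul_one]
    have he : a * b * c = u * v := by
      rw [mul_assoc, h3, ← mul_assoc, mul_self_class E ha, one_mul]
    rw [he] at h
    exact pair_not E (perp_class ha hu)
      (perp_of (perp_class ha hu) (perp_class ha hv) huv.symm huv'.symm) h
  · have h2 := (L.mul_not_conj b hb c hc (adj_of_commute L hb hc hcomm hp)).2
    refine h2 ?_
    have e : b * c * a = a * b * c := by
      rw [mul_assoc a b c]
      exact ((hb.2.2).mul_left hc.2.2).eq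
    rw [e]
    exact ha.symm.trans h

end Class

end H24.U6
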