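import Cfsg.Agent.H24.U6.Comp

/-!
Relations among five commuting members: their product is trivial only on a line.
-/

set_option autoImplicit false
set_option linter.unusedSectionVars false

namespace H24.U6

open H16.U6

variable {X : Type*} [Group X] {z : X}

/-- five commuting members with trivial product, three of them on a line, are on a line -/
theorem five_same (E : Views z) {a x y p q : X} {f : X → Fin 45} (L : Loc a f) (ha : IsConj z a)
    (hx : x ∈ Perp a) (hy : y ∈ Perp a) (hp : p ∈ Perp a) (hq : q ∈ Perp a) (hne : x ≠ y)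
    (hfxy : f x = f y) (hxp : Commute x p) (hpx : p ≠ x) (hpy : p ≠ y)
    (h : a * x * y * p * q = 1) : f p = f x ∧ f q = f x := by
  obtain ⟨u, v, hu, hv, hux, hvx, huv, -, -, -, -, h5, hall⟩ := exists_rest L hx hy hne hfxy
  have huz := perp_class ha hu
  have hvz := perp_class ha hv
  have hpz := perp_class ha hp
  have hcomm : Commute u v := (L.commute_iff u hu v hv).2 (Or.inl (hux.trans hvx.symm))
  have haxy : a * x * y = u * v := by
    have h2 : (u * v) * (u * v) = 1 := by
      rw [mul_assoc, ← mul_assoc v u v, ← hcomm.eq, mul_assoc u v v,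
        mul_self_class E hvz, mul_one, mul_self_class E huz]
    have h3 : x * y = a * (u * v) := by
      have h4 : x * y * (u * v) = a := by rw [← mul_assoc]; exact h5
      rw [← h4, mul_assoc, h2, mul_one]
    rw [mul_assoc, h3, ← mul_assoc, mul_self_class E ha, one_mul]
  rw [haxy] at h
  have hq' : q = u * v * p := by
    rw [eq_inv_of_mul_eq_one_left h, inv_eq_of_mul_eq_one_right (mul_self_class E (perp_class ha hq))]
  by_cases hpu : p = u
  · subst hpu
    rw [mul_assoc, ← hcomm.eq, ← mul_assoc, mul_self_class E hpz, one_mul] at hq'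
    exact ⟨hux, hq' ▸ hvx⟩
  by_cases hpv : p = v
  · subst hpv
    rw [mul_assoc, mul_self_class E hpz, mul_one] at hq'
    exact ⟨hvx, hq' ▸ hux⟩
  exfalso
  have hpc : ∀ w ∈ Perp a, f w = f x → Commute p w := by
    intro w hw hwx
    refine (L.commute_iff p hp w hw).2 ?_
    rw [hwx]
    exact (L.commute_iff p hp x hx).1 hxp.symm
  refine triple_not E huz (perp_of huz hvz huv.symm hcomm.symm)
    (perp_of huz hpz hpu (hpc u hu hux)) (Ne.symm hpv) (hpc v hv hvx).symm ?_
  rw [← hq']
  exact perp_class ha hq

theorem not_five_general (E : Views z) {a b c u v : X} {f : X → Fin 45} (L : Loc a f)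
    (ha : IsConj z a) (hb : b ∈ Perp a) (hc : c ∈ Perp a) (hu : u ∈ Perp a) (hv : v ∈ Perp a)
    (bc : Adj (f b) (f c)) (bu : Adj (f b) (f u)) (bv : Adj (f b) (f v))
    (cu : Adj (f c) (f u)) (cv : Adj (f c) (f v)) (uv : Adj (f u) (f v)) :
    a * b * c * u * v ≠ 1 := by
  intro h
  obtain ⟨r, hr, hrc⟩ : ∃ r, (r = f b ∨ Adj r (f b)) ∧ ¬ (r = f c ∨ Adj r (f c)) := by
    by_contra hn
    push Not at hn
    exact adj_irrefl _ (eq_of_sub (fun r hr => (hn r hr).imp id id) ▸ bc)
  obtain ⟨d, hd, rfl⟩ := L.surj r
  have hru : ¬ (f d = f u ∨ Adj (f d) (f u)) :=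
    fun h' => hrc (sees_all (adj_symm _ _ bc) cu bu hr h')
  have hrv : ¬ (f d = f v ∨ Adj (f d) (f v)) :=
    fun h' => hrc (sees_all (adj_symm _ _ bc) cv bv hr h')
  have dz := perp_class ha hd
  have hdb : Commute d b := (L.commute_iff d hd b hb).2 hr
  have ndc : ¬ Commute d c := fun e => hrc ((L.commute_iff d hd c hc).1 e)
  have ndu : ¬ Commute d u := fun e => hru ((L.commute_iff d hd u hu).1 e)
  have ndv : ¬ Commute d v := fun e => hrv ((L.commute_iff d hd v hv).1 e)
  have hnear : ∀ w ∈ Perp a, Near d w := fun w hw =>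
    near_trans E dz (near_of_perp (perp_symm hd)) (near_of_perp hw)
  have e1 : d * c * d = c * d * c := braid_eq E dz (hnear c hc) ndc
  have e2 : d * u * d = u * d * u := braid_eq E dz (hnear u hu) ndu
  have e3 : d * v * d = v * d * v := braid_eq E dz (hnear v hv) ndv
  have cc := mul_self_class E (perp_class ha hc)
  have uu := mul_self_class E (perp_class ha hu)
  have vv := mul_self_class E (perp_class ha hv)
  have dd := mul_self_class E dz
  have ccu : Commute c u := commute_of_adj L hc hu cu
  have cuv' : a * b = c * u * v := by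
    have h1 : (a * b) * (c * u * v) = 1 := by rw [← h]; group
    have h2 : (c * u * v) * (c * u * v) = 1 := by
      have k1 : Commute v (c * u) :=
        ((commute_of_adj L hc hv cv).symm).mul_right (commute_of_adj L hu hv uv).symm
      rw [mul_assoc (c * u) v, ← mul_assoc v (c * u) v, k1.eq, mul_assoc (c * u) v v, vv, mul_one,
        mul_assoc c u, ← mul_assoc u c u, ← ccu.eq, mul_assoc c u u, uu, mul_one, cc]
    exact mul_right_cancel (h1.trans h2.symm)
  have hk : Commute d (c * u * v) := cuv' ▸ hd.2.2.mul_right hdb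
  have e4 : (d * c * d) * u * (d * v * d) = u := by
    have k1 : (d * c * d) * (d * u * d) * (d * v * d) = c * u * v := by
      rw [show d * c * d * (d * u * d) * (d * v * d) = d * c * (d * d) * u * (d * d) * v * d by group,
        dd, mul_one, mul_one, show d * c * u * v = d * (c * u * v) by group, hk.eq, mul_assoc, dd,
        mul_one]
    rw [e1, e2, e3] at k1
    have k2 : c * (d * c * u * d * u * v * d) * v = c * u * v := by rw [← k1]; group
    have k3 := mul_left_cancel (mul_right_cancel k2)
    calc d * c * d * u * (d * v * d) = d * c * (d * u * d) * v * d := by group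
      _ = d * c * (u * d * u) * v * d := by rw [e2]
      _ = d * c * u * d * u * v * d := by group
      _ = u := k3
  have e5 : d * v * d = u * (d * c * d) * u := by
    have k : (d * c * d) * (d * c * d) = 1 := by
      rw [show d * c * d * (d * c * d) = d * c * (d * d) * c * d by group, dd, mul_one,
        mul_assoc d c c, cc, mul_one, dd]
    calc d * v * d = (u * u) * (d * v * d) := by rw [uu, one_mul]
      _ = u * ((d * c * d * (d * c * d)) * u * (d * v * d)) := by rw [k, one_mul, mul_assoc]
      _ = u * ((d * c * d) * ((d * c * d) * u * (d * v * d))) := by group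
      _ = u * (d * c * d) * u := by rw [e4]; group
  have e6 : v = u * (d * c * d) * u := by
    calc v = (d * d) * v * (d * d) := by rw [dd, one_mul, mul_one]
      _ = d * (d * v * d) * d := by group
      _ = (d * u * d) * c * (d * u * d) := by rw [e5]; group
      _ = u * d * (u * c * u) * d * u := by rw [e2]; group
      _ = u * d * c * d * u := by rw [← ccu.eq, mul_assoc c u u, uu, mul_one]
      _ = _ := by group
  exact ndv (show d * v = v * d by
    calc d * v = d * v * (d * d) := by rw [dd, mul_one]
      _ = d * v * d * d := by group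
      _ = v * d := by rw [e5, ← e6])

/-- five commuting members with trivial product are on a line -/
theorem five_line (E : Views z) {a b c u v : X} {f : X → Fin 45} (L : Loc a f)
    (ha : IsConj z a) (hb : b ∈ Perp a) (hc : c ∈ Perp a) (hu : u ∈ Perp a) (hv : v ∈ Perp a)
    (bc : Commute b c) (bu : Commute b u) (bv : Commute b v)
    (cu : Commute c u) (cv : Commute c v) (uv : Commute u v)
    (nbc : b ≠ c) (nbu : b ≠ u) (nbv : b ≠ v) (ncu : c ≠ u) (ncv : c ≠ v) (nuv : u ≠ v)
    (h : a * b * c * u * v = 1) : f b = f c := by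
  by_cases p1 : f b = f c
  · exact p1
  by_cases p2 : f b = f u
  · exact ((five_same E L ha hb hu hc hv nbu p2 bc nbc.symm ncu (by
      rw [← h, mul_assoc (a * b) c u, cu.eq, ← mul_assoc])).1).symm
  by_cases p3 : f b = f v
  · exact ((five_same E L ha hb hv hc hu nbv p3 bc nbc.symm ncv (by
      rw [← h, mul_assoc (a * b * c) u v, uv.eq, ← mul_assoc, mul_assoc (a * b) c v, cv.eq,
        ← mul_assoc])).1).symm
  by_cases p4 : f c = f u
  · exact (five_same E L ha hc hu hb hv ncu p4 bc.symm nbc nbu (by
      rw [← h, mul_assoc (a * c) u b, ← bu.eq, ← mul_assoc, mul_assoc a c b, ← bc.eq,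
        ← mul_assoc])).1
  by_cases p5 : f c = f v
  · exact (five_same E L ha hc hv hb hu ncv p5 bc.symm nbc nbv (by
      rw [← h, mul_assoc (a * b * c) u v, uv.eq, ← mul_assoc, mul_assoc (a * c) v b, ← bv.eq,
        ← mul_assoc, mul_assoc a c b, ← bc.eq, ← mul_assoc])).1
  by_cases p6 : f u = f v
  · obtain ⟨q1, q2⟩ := five_same E L ha hu hv hb hc nuv p6 bu.symm nbu nbv (by
      rw [← h, mul_assoc (a * u) v b, ← bv.eq, ← mul_assoc, mul_assoc a u b, ← bu.eq,
        ← mul_assoc, mul_assoc (a * b * u) v c, ← cv.eq, ← mul_assoc, mul_assoc (a * b) u c,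
        ← cu.eq, ← mul_assoc])
    exact q1.trans q2.symm
  exfalso
  exact not_five_general E L ha hb hc hu hv (adj_of_commute L hb hc bc p1)
    (adj_of_commute L hb hu bu p2) (adj_of_commute L hb hv bv p3) (adj_of_commute L hc hu cu p4)
    (adj_of_commute L hc hv cv p5) (adj_of_commute L hu hv uv p6) h

/-- the product of three commuting members off a line is not a product of a commuting pair -/
theorem triple_ne_pair (E : Views z) {a b c x y : X} {f : X → Fin 45} (L : Loc a f)
    (ha : IsConj z a) (hb : b ∈ Perp a) (hc : c ∈ Perp a) (bc : Commute b c)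
    (hp : f b ≠ f c) (hy : y ∈ Perp x) (hax : Near a x) : a * b * c ≠ x * y := by
  intro h
  have hxz := near_class ha hax
  have hyz := perp_class hxz hy
  have nbc : b ≠ c := fun e => hp (e ▸ rfl)
  have hbz := perp_class ha hb
  have hcz := perp_class ha hc
  have haa := mul_self_class E ha
  have hbcp : b * c = a * (x * y) := by
    rw [← h, mul_assoc, ← mul_assoc a a, haa, one_mul]
  have npair : ¬ IsConj z (b * c) := pair_not E hbz (perp_of hbz hcz nbc.symm bc.symm)
  have hcomm : ∀ w, Commute w a → Commute w b → Commute w c → Commute w (x * y) :=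
    fun w h1 h2 h3 => h ▸ ((h1.mul_right h2).mul_right h3)
  obtain ⟨ax, ay⟩ := split E hxz hy (near_symm hax)
    (hcomm a (Commute.refl a) hb.2.2.symm hc.2.2.symm)
  have nax : a ≠ x := by
    rintro rfl
    rw [← mul_assoc, haa, one_mul] at hbcp
    exact npair (hbcp ▸ hyz)
  have nay : a ≠ y := by
    rintro rfl
    rw [← hy.2.2.eq, ← mul_assoc, haa, one_mul] at hbcp
    exact npair (hbcp ▸ hxz)
  have hxa : x ∈ Perp a := perp_of ha hxz nax.symm ax.symm
  have hya : y ∈ Perp a := perp_of ha hyz nay.symm ay.symm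
  obtain ⟨bx, by'⟩ := split E hxz hy (near_trans E hxz (near_of_perp (perp_symm hxa)) (near_of_perp hb))
    (hcomm b hb.2.2 (Commute.refl b) bc)
  obtain ⟨cx, cy⟩ := split E hxz hy (near_trans E hxz (near_of_perp (perp_symm hxa)) (near_of_perp hc))
    (hcomm c hc.2.2 bc.symm (Commute.refl c))
  have bb := mul_self_class E hbz
  have cc := mul_self_class E hcz
  have hxy2 : x * y * (x * y) = 1 := by
    rw [mul_assoc, ← mul_assoc y x y, hy.2.2.eq, mul_assoc x y y, mul_self_class E hyz, mul_one,
      mul_self_class E hxz]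
  have h1 : a * b * c * x * y = 1 := by rw [mul_assoc (a * b * c), h, hxy2]
  -- coincidences would make a pair product a member
  have n1 : b ≠ x := by
    rintro rfl
    rw [← mul_assoc, ← hb.2.2.symm.eq.symm, mul_assoc b a y] at hbcp
    have := mul_left_cancel hbcp
    exact pair_not E ha hya (this ▸ hcz)
  have n2 : b ≠ y := by
    rintro rfl
    rw [← hy.2.2.eq, ← mul_assoc, ← hb.2.2.eq, mul_assoc b a x] at hbcp
    exact pair_not E ha hxa ((mul_left_cancel hbcp) ▸ hcz)
  have n3 : c ≠ x := by
    rintro rfl
    rw [bc.eq, ← mul_assoc, ← hc.2.2.eq, mul_assoc c a y] at hbcp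
    exact pair_not E ha hya ((mul_left_cancel hbcp) ▸ hbz)
  have n4 : c ≠ y := by
    rintro rfl
    rw [bc.eq, ← hy.2.2.eq, ← mul_assoc, ← hc.2.2.eq, mul_assoc c a x] at hbcp
    exact pair_not E ha hxa ((mul_left_cancel hbcp) ▸ hbz)
  exact hp (five_line E L ha hb hc hxa hya bc bx by' cx cy hy.2.2.symm nbc n1 n2 n3 n4
    hy.2.1.symm h1)

end H24.U6
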