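import Cfsg.Agent.H24.U6.Count
import Cfsg.Agent.H24.U6.Prod

/-!
The centralisers of products of two or three commuting members fix the component.
-/

set_option autoImplicit false
set_option linter.unusedSectionVars false

namespace H24.U6

open H16.U6

variable {X : Type*} [Group X] {z : X}

/-- `g` fixes the component of `a` -/
def InM (a g : X) : Prop := Near a (g * a * g⁻¹)

theorem near_conj_mem (E : Views z) {a g x : X} (ha : IsConj z a) (hg : InM a g) (hx : Near a x) :
    Near a (g * x * g⁻¹) := near_trans E ha hg (near_conj g hx)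

theorem inM_mul (E : Views z) {a g h : X} (ha : IsConj z a) (hg : InM a g) (hh : InM a h) :
    InM a (g * h) := by
  have := near_conj_mem E ha hg hh
  rwa [show g * (h * a * h⁻¹) * g⁻¹ = g * h * a * (g * h)⁻¹ by group] at this

theorem inM_inv {a g : X} (hg : InM a g) : InM a g⁻¹ := by
  have := near_symm (near_conj g⁻¹ hg)
  simpa [InM, mul_assoc] using this

theorem inM_of (E : Views z) {a g u : X} (ha : IsConj z a) (hu : Near a u)
    (hgu : Near a (g * u * g⁻¹)) : InM a g :=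
  near_trans E ha hgu (near_symm (near_conj g hu))

theorem inM_fix (E : Views z) {a g c : X} (ha : IsConj z a) (hc : Near a c) (h : Commute g c) :
    InM a g :=
  inM_of E ha hc (by rw [h.eq, mul_inv_cancel_right]; exact hc)

theorem inM_change (E : Views z) {a b g : X} (ha : IsConj z a) (hab : Near a b) (hg : InM b g) :
    InM a g :=
  inM_of E ha hab (near_trans E ha hab hg)

/-- a member fixing the component lies in it -/
theorem near_of_inM [Finite X] (E : Views z) {a d : X} (ha : IsConj z a) (hd : IsConj z d)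
    (h : InM a d) : Near a d := by
  classical
  haveI := Fintype.ofFinite X
  have dd := mul_self_class E hd
  let S : Set X := {x | Near a x}
  let τ : S ≃ S :=
    { toFun := fun x => ⟨d * x.1 * d⁻¹, near_conj_mem E ha h x.2⟩
      invFun := fun x => ⟨d * x.1 * d⁻¹, near_conj_mem E ha h x.2⟩
      left_inv := fun x => Subtype.ext (by
        show d * (d * x.1 * d⁻¹) * d⁻¹ = x.1
        rw [show d * (d * x.1 * d⁻¹) * d⁻¹ = (d * d) * x.1 * (d * d)⁻¹ by group, dd]; group)
      right_inv := fun x => Subtype.ext (by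
        show d * (d * x.1 * d⁻¹) * d⁻¹ = x.1
        rw [show d * (d * x.1 * d⁻¹) * d⁻¹ = (d * d) * x.1 * (d * d)⁻¹ by group, dd]; group) }
  have hcard : ¬ 2 ∣ Fintype.card S := by
    rw [← Nat.card_eq_fintype_card, show Nat.card S = 693 from near_ncard E ha]
    norm_num
  have hτ : τ ^ 2 ^ 1 = 1 := Equiv.ext fun x => by
    rw [pow_one, pow_two]; exact τ.left_inv x
  haveI : Fact (Nat.Prime 2) := ⟨Nat.prime_two⟩
  obtain ⟨x, hx⟩ := Equiv.Perm.exists_fixed_point_of_prime hcard hτ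
  have hx' : d * x.1 * d⁻¹ = x.1 := congrArg Subtype.val hx
  refine near_step E ha x.2 hd ?_
  have := congrArg (· * d) hx'
  simpa [mul_assoc, Commute, SemiconjBy] using this

/-- two involutions not conjugate in a subgroup have an involution of it commuting with both -/
theorem dihedral [Finite X] (V : Subgroup X) {u d : X} (hu : u ∈ V) (hd : d ∈ V) (uu : u * u = 1)
    (dd : d * d = 1) (hn : ∀ g ∈ V, g * d * g⁻¹ ≠ u) :
    ∃ w, w ∈ V ∧ w ≠ u ∧ Commute w u ∧ Commute d (u * w) ∧
      ∃ g ∈ V, g * u * g⁻¹ = w ∨ g * d * g⁻¹ = w := by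
  set x := u * d with hx
  have hxV : x ∈ V := mul_mem hu hd
  have hxi : x⁻¹ = d * u := by
    rw [hx, mul_inv_rev, inv_eq_of_mul_eq_one_right uu, inv_eq_of_mul_eq_one_right dd]
  have hdx : d * x * d⁻¹ = x⁻¹ := by
    rw [hxi, inv_eq_of_mul_eq_one_right dd, hx, mul_assoc, mul_assoc u d d, dd, mul_one]
  have hd' : ∀ i : ℕ, d * x ^ i * d⁻¹ = (x ^ i)⁻¹ := fun i => by
    rw [← conj_pow, hdx, inv_pow]
  have hxd : x * d = u := by rw [hx, mul_assoc, dd, mul_one]
  clear_value x
  have hconj : ∀ i : ℕ, x ^ i * d * (x ^ i)⁻¹ = x ^ (2 * i) * d := fun i => by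
    rw [← hd' i, two_mul, pow_add]; simp only [inv_eq_of_mul_eq_one_right dd]
    simp only [mul_assoc]
    rw [← mul_assoc d d, dd, one_mul]
  rcases Nat.even_or_odd' (orderOf x) with ⟨m, hm | hm⟩
  swap
  · exfalso
    refine hn (x ^ (m + 1)) (pow_mem hxV _) ?_
    rw [hconj, show 2 * (m + 1) = orderOf x + 1 by omega, pow_succ', pow_orderOf_eq_one, mul_one,
      hxd]
  have hpos := orderOf_pos x
  have hk1 : x ^ m ≠ 1 := pow_ne_one_of_lt_orderOf (by omega) (by omega)
  have hk2 : (x ^ m)⁻¹ = x ^ m := by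
    refine inv_eq_of_mul_eq_one_right ?_
    rw [← pow_add, show m + m = orderOf x by omega, pow_orderOf_eq_one]
  have hkd : Commute d (x ^ m) := by
    have := hd' m
    rw [hk2] at this
    exact mul_inv_eq_iff_eq_mul.1 this
  have hku : Commute u (x ^ m) := hxd ▸ ((Commute.refl x).pow_right m).mul_left hkd
  have hw : u * x ^ m = x ^ (m + 1) * d := by rw [hku.eq, ← hxd, ← mul_assoc, pow_succ]
  refine ⟨u * x ^ m, mul_mem hu (pow_mem hxV _), fun e => hk1 ?_,
    ((Commute.refl u).mul_right hku).symm, ?_, ?_⟩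
  · exact mul_left_cancel (e.trans (mul_one u).symm)
  · rw [← mul_assoc, uu, one_mul]; exact hkd
  · rcases Nat.even_or_odd' (m + 1) with ⟨i, hi | hi⟩
    · exact ⟨x ^ i, pow_mem hxV _, Or.inr (by rw [hw, hi, hconj])⟩
    · refine ⟨x ^ i, pow_mem hxV _, Or.inl ?_⟩
      calc x ^ i * u * (x ^ i)⁻¹ = x ^ i * (x * d) * (x ^ i)⁻¹ := by rw [hxd]
        _ = x * (x ^ i * d * (x ^ i)⁻¹) := by
          rw [← mul_assoc (x ^ i) x d, ← ((Commute.refl x).pow_right i).eq]; simp only [mul_assoc]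
        _ = x ^ (2 * i + 1) * d := by rw [hconj, pow_succ', mul_assoc]
        _ = _ := by rw [hw, hi]

/-- the fusion argument -/
theorem fusion [Finite X] (E : Views z) {a u v : X} (V : Subgroup X) (ha : IsConj z a)
    (hu : u ∈ V) (hv : v ∈ V) (hua : Near a u) (hva : Near a v)
    (hn : ∀ g ∈ V, InM a g → g * v * g⁻¹ ≠ u)
    (hw : ∀ w ∈ V, Near a w → w ∈ Perp u →
      (∃ g ∈ V, InM a g ∧ (g * u * g⁻¹ = w ∨ g * v * g⁻¹ = w)) →
      ∀ d ∈ V, Commute d (u * w) → InM a d) :
    ∀ g ∈ V, InM a g := by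
  intro g hg
  set d := g * v * g⁻¹ with hd
  have hdV : d ∈ V := mul_mem (mul_mem hg hv) (inv_mem hg)
  have huz := near_class ha hua
  have hdz : IsConj z d := (near_class ha hva).trans (isConj_iff.2 ⟨g, rfl⟩)
  have hn' : ∀ k ∈ V, k * d * k⁻¹ ≠ u := by
    intro k hk e
    have e' : k * g * v * (k * g)⁻¹ = u := by rw [← e, hd]; group
    exact hn (k * g) (mul_mem hk hg) (inM_of E ha hva (e'.symm ▸ hua)) e'
  obtain ⟨w, hwV, hwu, hwc, hdw, k, hk, hkw⟩ :=
    dihedral V hu hdV (mul_self_class E huz) (mul_self_class E hdz) hn'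
  have hwz : IsConj z w := by
    rcases hkw with h | h
    exacts [h ▸ huz.trans (isConj_iff.2 ⟨k, rfl⟩), h ▸ hdz.trans (isConj_iff.2 ⟨k, rfl⟩)]
  have hwa : Near a w := near_step E ha hua hwz hwc
  have horb : ∃ g ∈ V, InM a g ∧ (g * u * g⁻¹ = w ∨ g * v * g⁻¹ = w) := by
    rcases hkw with h | h
    · exact ⟨k, hk, inM_of E ha hua (h.symm ▸ hwa), Or.inl h⟩
    · have e' : k * g * v * (k * g)⁻¹ = w := by rw [← h, hd]; group
      exact ⟨k * g, mul_mem hk hg, inM_of E ha hva (e'.symm ▸ hwa), Or.inr e'⟩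
  exact inM_of E ha hva (near_of_inM E ha hdz
    (hw w hwV hwa (perp_of huz hwz hwu hwc) horb d hdV hdw))

theorem fix_pair (E : Views z) {a b g : X} (ha : IsConj z a) (hb : b ∈ Perp a) (hg : InM a g)
    (h : Commute g (a * b)) :
    (g * a * g⁻¹ = a ∧ g * b * g⁻¹ = b) ∨ (g * a * g⁻¹ = b ∧ g * b * g⁻¹ = a) := by
  rcases pair_eq E ha hb (perp_conj g hb) hg
    (by rw [show g * a * g⁻¹ * (g * b * g⁻¹) = g * (a * b) * g⁻¹ by group, h.eq,
      mul_inv_cancel_right]) with ⟨h1, h2⟩ | ⟨h1, h2⟩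
  exacts [Or.inl ⟨h1.symm, h2.symm⟩, Or.inr ⟨h2.symm, h1.symm⟩]

theorem mem_cent {t g : X} : g ∈ Subgroup.centralizer ({t} : Set X) ↔ Commute g t :=
  Subgroup.mem_centralizer_singleton_iff

theorem mem_cent_pair {s t g : X} :
    g ∈ Subgroup.centralizer ({s, t} : Set X) ↔ Commute g s ∧ Commute g t := by
  rw [Subgroup.mem_centralizer_iff]
  simp only [Set.mem_insert_iff, Set.mem_singleton_iff, forall_eq_or_imp, forall_eq]
  exact and_congr ⟨Eq.symm, Eq.symm⟩ ⟨Eq.symm, Eq.symm⟩

theorem inM_share [Finite X] (E : Views z) {a b e g : X} (ha : IsConj z a) (h : Same a b e)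
    (hne : b ≠ e) (h1 : Commute g (a * b)) (h2 : Commute g (a * e)) : InM a g := by
  obtain ⟨f, L⟩ := E a ha
  have hb := h.1
  have he := h.2.1
  have hp := (same_iff L hb he).1 h
  obtain ⟨c, c', hc, hc', hcb, hc'b, hcc, hc1, hc2, hc3, hc4, h5, hall⟩ := exists_rest L hb he hne hp
  set V := Subgroup.centralizer ({a * b, a * e} : Set X) with hV
  have hline : ∀ w, w ∈ Perp a → f w = f b → Commute w b ∧ Commute w e := fun w hw hwb =>
    ⟨(L.commute_iff w hw b hb).2 (Or.inl hwb), (L.commute_iff w hw e he).2 (Or.inl (hwb.trans hp))⟩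
  have haV : a ∈ V := mem_cent_pair.2 ⟨(Commute.refl a).mul_right hb.2.2.symm,
    (Commute.refl a).mul_right he.2.2.symm⟩
  have hcV : c ∈ V := mem_cent_pair.2 ⟨hc.2.2.mul_right (hline c hc hcb).1,
    hc.2.2.mul_right (hline c hc hcb).2⟩
  have hfix : ∀ k ∈ V, InM a k → k * a * k⁻¹ = a ∧ k * b * k⁻¹ = b ∧ k * e * k⁻¹ = e := by
    intro k hk hkM
    rcases fix_pair E ha hb hkM (mem_cent_pair.1 hk).1 with ⟨q1, q2⟩ | ⟨q1, q2⟩
    · rcases fix_pair E ha he hkM (mem_cent_pair.1 hk).2 with ⟨r1, r2⟩ | ⟨r1, r2⟩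
      · exact ⟨q1, q2, r2⟩
      · exact absurd (q1.symm.trans r1) he.2.1.symm
    · rcases fix_pair E ha he hkM (mem_cent_pair.1 hk).2 with ⟨r1, r2⟩ | ⟨r1, r2⟩
      · exact absurd (r1.symm.trans q1) hb.2.1.symm
      · exact absurd (q1.symm.trans r1) hne
  refine fusion E V ha haV hcV (near_refl a) (near_of_perp hc)
    (fun k hk hkM heq => ?_) ?_ g (mem_cent_pair.2 ⟨h1, h2⟩)
  · exact hc.2.1 (mul_left_cancel (mul_right_cancel (heq.trans (hfix k hk hkM).1.symm)))
  intro w _ _ hwp ⟨k, hk, hkM, hkw⟩ d hd hdw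
  obtain ⟨q1, q2, q3⟩ := hfix k hk hkM
  have hw : k * c * k⁻¹ = w := hkw.resolve_left fun h' => hwp.2.1 (h'.symm.trans q1)
  have hsame : Same a b w := by
    have := ((same_iff L hb hc).2 hcb.symm).conj k
    rwa [q1, q2, hw] at this
  have hwb : w ≠ b := fun h' => hc1 (mul_left_cancel (mul_right_cancel (hw.trans (h'.trans q2.symm))))
  have hwe : w ≠ e := fun h' => hc2 (mul_left_cancel (mul_right_cancel (hw.trans (h'.trans q3.symm))))
  have hfw := ((same_iff L hb hsame.2.1).1 hsame).symm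
  obtain ⟨w', hw', hw'b, hprod⟩ : ∃ w', w' ∈ Perp a ∧ f w' = f b ∧ b * e * w * w' = a := by
    rcases hall w hsame.2.1 hfw with h' | h' | h' | h'
    · exact absurd h' hwb
    · exact absurd h' hwe
    · exact ⟨c', hc', hc'b, h' ▸ h5⟩
    · refine ⟨c, hc, hcb, ?_⟩
      rw [← h5, h', mul_assoc (b * e) c' c, ((L.commute_iff c' hc' c hc).2
        (Or.inl (hc'b.trans hcb.symm))).eq, ← mul_assoc]
  refine inM_fix E ha (near_of_perp hw') ?_
  have haa := mul_self_class E ha
  have hbew : b * e * w = a * w' := by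
    rw [← hprod, mul_assoc (b * e * w) w' w', mul_self_class E (perp_class ha hw'), mul_one]
  have heq : w' = a * b * (a * e) * (a * w) := by
    calc w' = a * (a * w') := by rw [← mul_assoc, haa, one_mul]
      _ = a * (b * e * w) := by rw [hbew]
      _ = a * b * ((a * a) * e) * w := by rw [haa]; group
      _ = a * b * (a * (a * e)) * w := by group
      _ = a * b * (a * (e * a)) * w := by rw [he.2.2.symm.eq]
      _ = _ := by group
  rw [heq]
  exact ((mem_cent_pair.1 hd).1.mul_right (mem_cent_pair.1 hd).2).mul_right hdw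

theorem inM_pair [Finite X] (E : Views z) {a b g : X} (ha : IsConj z a) (hb : b ∈ Perp a)
    (h : Commute g (a * b)) : InM a g := by
  classical
  obtain ⟨f, L⟩ := E a ha
  obtain ⟨c, hc, hcb, hne⟩ : ∃ c, c ∈ Perp a ∧ f c = f b ∧ c ≠ b := by
    obtain ⟨c, ⟨hc, hcb⟩, hne⟩ := Set.exists_ne_of_one_lt_ncard
      (s := {x ∈ Perp a | f x = f b}) (by rw [L.card_fibre]; norm_num) b
    exact ⟨c, hc, hcb, hne⟩
  obtain ⟨c₂, c₃, h2, h3, h2b, h3b, h23, h21, h22, h31, h32, h5, hall⟩ :=
    exists_rest L hb hc hne.symm hcb.symm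
  set V := Subgroup.centralizer ({a * b} : Set X) with hV
  have haV : a ∈ V := mem_cent.2 ((Commute.refl a).mul_right hb.2.2.symm)
  have hcV : c ∈ V := mem_cent.2 (hc.2.2.mul_right ((L.commute_iff c hc b hb).2 (Or.inl hcb)))
  refine fusion E V ha hcV haV (near_of_perp hc) (near_refl a) (fun k hk hkM heq => ?_) ?_ g
    (mem_cent.2 h)
  · rcases fix_pair E ha hb hkM (mem_cent.1 hk) with ⟨q, -⟩ | ⟨q, -⟩
    · exact hc.2.1 (heq.symm.trans q)
    · exact hne (heq.symm.trans q)
  intro w _ _ hwp ⟨k, hk, hkM, hkw⟩ d hd hdw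
  have hd' := mem_cent.1 hd
  have hwline : w = a ∨ (w ∈ Perp a ∧ f w = f b) := by
    have hs := ((same_iff L hb hc).2 hcb.symm).conj k
    rcases fix_pair E ha hb hkM (mem_cent.1 hk) with ⟨q1, q2⟩ | ⟨q1, q2⟩
    · rcases hkw with h' | h'
      · rw [q1, q2, h'] at hs; exact Or.inr ⟨hs.2.1, ((same_iff L hb hs.2.1).1 hs).symm⟩
      · exact Or.inl (h'.symm.trans q1)
    · rcases hkw with h' | h'
      · rw [q1, q2, h'] at hs
        have hsw : a ≠ w := fun e => hne (mul_left_cancel (mul_right_cancel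
          (show k * c * k⁻¹ = k * b * k⁻¹ by rw [q2, h', e])))
        have hs' := same_rot E (perp_class ha hb) hs hsw
        exact Or.inr ⟨hs'.2.1, ((same_iff L hb hs'.2.1).1 hs').symm⟩
      · exact Or.inr ⟨h'.symm.trans q1 ▸ hb, by rw [← h', q1]⟩
  rcases hwline with rfl | ⟨hw, hwb⟩
  · exact inM_share E ha ((same_iff L hb hc).2 hcb.symm) hne.symm hd' (by
      rw [hc.2.2.symm.eq]; exact hdw)
  rcases hall w hw hwb with rfl | rfl | rfl | rfl
  · refine inM_change E ha (near_of_perp hb) (inM_share E (perp_class ha hb)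
      (same_rot E ha ((same_iff L hw hc).2 hcb.symm) hne.symm) hc.2.1.symm ?_ ?_)
    · rw [hb.2.2.eq]; exact hd'
    · rw [(L.commute_iff _ hb c hc).2 (Or.inl hcb.symm) |>.eq]; exact hdw
  · exact absurd rfl hwp.2.1
  · refine inM_fix E ha (near_of_perp h3) ?_
    have e : c₃ = a * b * (c * w) := by
      have e1 : b * c * w = a * c₃ := by
        rw [← h5, mul_assoc (b * c * w) c₃ c₃, mul_self_class E (perp_class ha h3), mul_one]
      rw [show a * b * (c * w) = a * (b * c * w) by group, e1, ← mul_assoc, mul_self_class E ha, one_mul]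
    rw [e]; exact hd'.mul_right hdw
  · refine inM_fix E ha (near_of_perp h2) ?_
    have e : c₂ = a * b * (c * w) := by
      have e0 : b * c * w * c₂ = a := by
        rw [← h5, mul_assoc (b * c) w c₂, ((L.commute_iff w hw c₂ h2).2
          (Or.inl (hwb.trans h2b.symm))).eq, ← mul_assoc]
      have e1 : b * c * w = a * c₂ := by
        rw [← e0, mul_assoc (b * c * w) c₂ c₂, mul_self_class E (perp_class ha h2), mul_one]
      rw [show a * b * (c * w) = a * (b * c * w) by group, e1, ← mul_assoc, mul_self_class E ha, one_mul]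
    rw [e]; exact hd'.mul_right hdw

theorem inM_triple [Finite X] (E : Views z) {a b c g : X} (ha : IsConj z a) (hb : b ∈ Perp a)
    (hc : c ∈ Perp a) (hbc : b ≠ c) (bc : Commute b c) (h : Commute g (a * b * c)) : InM a g := by
  classical
  obtain ⟨f, L⟩ := E a ha
  have haa := mul_self_class E ha
  by_cases hp : f b = f c
  · obtain ⟨u, v, hu, hv, hub, hvb, huv, -, -, -, -, h5, -⟩ := exists_rest L hb hc hbc hp
    have huv' : Commute u v := (L.commute_iff u hu v hv).2 (Or.inl (hub.trans hvb.symm))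
    have h2 : (u * v) * (u * v) = 1 := by
      rw [mul_assoc, ← mul_assoc v u v, ← huv'.eq, mul_assoc u v v,
        mul_self_class E (perp_class ha hv), mul_one, mul_self_class E (perp_class ha hu)]
    have h4 : b * c = a * (u * v) := by
      have h4 : b * c * (u * v) = a := by rw [← mul_assoc]; exact h5
      rw [← h4, mul_assoc, h2, mul_one]
    have he : a * b * c = u * v := by rw [mul_assoc, h4, ← mul_assoc, haa, one_mul]
    rw [he] at h
    exact inM_change E ha (near_of_perp hu) (inM_pair E (perp_class ha hu)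
      (perp_of (perp_class ha hu) (perp_class ha hv) huv.symm huv'.symm) h)
  obtain ⟨c₁, hc₁, hc₁b, hne⟩ : ∃ x, x ∈ Perp a ∧ f x = f b ∧ x ≠ b := by
    obtain ⟨x, ⟨hx, hxb⟩, hne⟩ := Set.exists_ne_of_one_lt_ncard
      (s := {x ∈ Perp a | f x = f b}) (by rw [L.card_fibre]; norm_num) b
    exact ⟨x, hx, hxb, hne⟩
  obtain ⟨c₂, c₃, h2, h3, h2b, h3b, h23, h21, h22, h31, h32, h5, -⟩ :=
    exists_rest L hb hc₁ hne.symm hc₁b.symm
  set V := Subgroup.centralizer ({a * b * c} : Set X) with hV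
  have hA : ∀ w, w ∈ Perp a → f w = f b → Commute w b ∧ Commute w c := fun w hw hwb =>
    ⟨(L.commute_iff w hw b hb).2 (Or.inl hwb),
      commute_of_adj L hw hc (hwb ▸ adj_of_commute L hb hc bc hp)⟩
  have haV : a ∈ V := mem_cent.2 (((Commute.refl a).mul_right hb.2.2.symm).mul_right hc.2.2.symm)
  have hcV : c₁ ∈ V :=
    mem_cent.2 ((hc₁.2.2.mul_right (hA _ hc₁ hc₁b).1).mul_right (hA _ hc₁ hc₁b).2)
  refine fusion E V ha haV hcV (near_refl a) (near_of_perp hc₁) (fun k hk hkM heq => ?_) ?_ g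
    (mem_cent.2 h)
  · have hcz := perp_class ha hc
    obtain ⟨m, K⟩ := E c hcz
    have h2c : c₂ ∈ Perp c := perp_of hcz (perp_class ha h2)
      (fun e => hp (h2b.symm.trans (congrArg f e))) (hA _ h2 h2b).2
    have h3c : c₃ ∈ Perp c := perp_of hcz (perp_class ha h3)
      (fun e => hp (h3b.symm.trans (congrArg f e))) (hA _ h3 h3b).2
    have c23 : Commute c₂ c₃ := (L.commute_iff c₂ h2 c₃ h3).2 (Or.inl (h2b.trans h3b.symm))
    have hm : m c₂ ≠ m c₃ := by
      intro e
      have q1 := same_rot E hcz ((same_iff K h2c h3c).2 e) h23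
      have q2 := same_rot E ha ((same_iff L h2 h3).2 (h2b.trans h3b.symm)) h23
      have q3 := same_rot E (perp_class ha h2) (q2.trans q1.swap) hc.2.1.symm
      exact hp (h2b.symm.trans ((same_iff L h2 hc).1 q3))
    have e1 : a * b * c * c₁ = c * c₂ * c₃ := by
      have q1 : b * c₁ = a * (c₂ * c₃) := by
        have q2 : (c₂ * c₃) * (c₂ * c₃) = 1 := by
          rw [mul_assoc, ← mul_assoc c₃ c₂ c₃, ← c23.eq, mul_assoc c₂ c₃ c₃,
            mul_self_class E (perp_class ha h3), mul_one, mul_self_class E (perp_class ha h2)]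
        have q3 : b * c₁ * (c₂ * c₃) = a := by rw [← mul_assoc]; exact h5
        rw [← q3, mul_assoc, q2, mul_one]
      rw [mul_assoc (a * b) c c₁, ← (hA _ hc₁ hc₁b).2.eq, ← mul_assoc, mul_assoc a b c₁, q1,
        ← mul_assoc a a, haa, one_mul, mul_assoc c c₂ c₃]
      exact (((hA _ h2 h2b).2.symm.mul_right (hA _ h3 h3b).2.symm).eq).symm
    have e2 : c * c₂ * c₃ = k⁻¹ * b * k * (k⁻¹ * c * k) := by
      rw [← e1]
      have q : k * (a * b * c * c₁) * k⁻¹ = b * c := by
        rw [show k * (a * b * c * c₁) * k⁻¹ = k * (a * b * c) * k⁻¹ * (k * c₁ * k⁻¹) by group,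
          (mem_cent.1 hk).eq, mul_inv_cancel_right, heq, mul_assoc (a * b) c a, hc.2.2.eq,
          ← mul_assoc, mul_assoc a b a, hb.2.2.eq, ← mul_assoc, haa, one_mul]
      have q2 := congrArg (fun x => k⁻¹ * x * k) q
      simpa [mul_assoc] using q2
    refine triple_ne_pair E K hcz h2c h3c c23 hm ?_ ?_ e2
    · have := perp_conj k⁻¹ (perp_of (perp_class ha hb) hcz hbc.symm bc.symm)
      simpa using this
    · refine near_trans E hcz (near_of_perp (perp_symm hc)) ?_
      have := near_conj_mem E ha (inM_inv hkM) (near_of_perp hb)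
      simpa using this
  intro w _ _ hwp _ d _ hdw
  exact inM_pair E ha hwp hdw

end H24.U6
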