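import Cfsg.Agent.H24.U6.Basic

/-!
The components of the commuting graph have diameter two and consist of 3-transpositions.
-/

set_option autoImplicit false
set_option linter.unusedSectionVars false

namespace H24.U6

open H16.U6

variable {X : Type*} [Group X] {z : X}

theorem commute_of_conj_eq (g : X) {x y : X} (h : Commute x y) :
    Commute (g * x * g⁻¹) (g * y * g⁻¹) := h.map (MulAut.conj g).toMonoidHom

/-- over a neighbour of the point of `b` at `a` exactly one member commutes with `c`, if `c` is in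
the perp of `b` and not in the perp of `a` -/
theorem grid (E : Views z) {a b c : X} {f : X → Fin 45} (L : Loc a f) (ha : IsConj z a)
    (hb : b ∈ Perp a) (hc : c ∈ Perp b) (hac : ¬ Commute a c) {r : Fin 45} (hr : Adj r (f b)) :
    ∃! x, x ∈ Perp a ∧ f x = r ∧ Commute x c := by
  classical
  have hbz : IsConj z b := perp_class ha hb
  obtain ⟨k, K⟩ := E b hbz
  have hab : a ∈ Perp b := perp_symm hb
  have hF : ∀ x, x ∈ Perp a → f x = r → x ∈ Perp b ∧ Adj (k a) (k x) := by
    intro x hx hxr
    have hA : Adj (f x) (f b) := hxr ▸ hr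
    have hxb : x ∈ Perp b :=
      perp_of hbz (perp_class ha hx) (ne_of_adj hA) (commute_of_adj L hx hb hA)
    refine ⟨hxb, adj_of_commute K hab hxb hx.2.2.symm fun e => ?_⟩
    have h := same_rot E hbz ((same_iff K hab hxb).2 e) hx.2.1.symm
    exact adj_irrefl _ ((same_iff L hb hx).1 h ▸ hA)
  have hpair : ∀ x x', x ∈ Perp a → x' ∈ Perp a → f x = r → f x' = r → x ≠ x' →
      Adj (k x) (k x') := by
    intro x x' hx hx' hxr hxr' hne
    have h1 : Same a x x' := (same_iff L hx hx').2 (hxr.trans hxr'.symm)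
    refine adj_of_commute K (hF x hx hxr).1 (hF x' hx' hxr').1 h1.commute fun e => ?_
    have h2 := same_rot E hbz ((same_iff K (hF x hx hxr).1 (hF x' hx' hxr').1).2 e) hne
    have h3 : Same x a b := (same_rot E ha h1 hne).trans h2.swap
    have h4 := same_rot E (perp_class ha hx) h3 hb.2.1.symm
    have hA : Adj (f x) (f b) := hxr ▸ hr
    exact adj_irrefl _ ((same_iff L hx hb).1 h4 ▸ hA)
  have hs1 : k c ≠ k a := fun e => hac ((K.commute_iff a hab c hc).2 (Or.inl e.symm))
  have hs2 : ¬ Adj (k c) (k a) := fun e =>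
    hac ((K.commute_iff a hab c hc).2 (Or.inr (adj_symm _ _ e)))
  obtain ⟨x₀, hx₀, hx₀r⟩ := L.surj r
  obtain ⟨t, ht, hst⟩ := exists_meet (hF x₀ hx₀ hx₀r).2 hs1 hs2
  set S := {x ∈ Perp a | f x = r} with hS
  have hfin : S.Finite := Set.finite_of_ncard_ne_zero (by rw [hS, L.card_fibre]; norm_num)
  have hex : ∃ x, x ∈ Perp a ∧ f x = r ∧ k x = t := by
    rcases ht with rfl | ht
    · exact ⟨x₀, hx₀, hx₀r, rfl⟩
    have hinj : Set.InjOn k (hfin.toFinset.erase x₀) := by
      intro x hx y hy e
      simp only [Finset.coe_erase, Set.mem_sdiff, Set.Finite.coe_toFinset, hS, Set.mem_ofPred_eq] at hx hy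
      by_contra hne
      exact adj_irrefl _ (e ▸ hpair x y hx.1.1 hy.1.1 hx.1.2 hy.1.2 hne)
    have himg : (hfin.toFinset.erase x₀).image k =
        Finset.univ.filter fun u => Adj (k a) u ∧ Adj (k x₀) u := by
      refine Finset.eq_of_subset_of_card_le (fun u hu => ?_) ?_
      · obtain ⟨x, hx, rfl⟩ := Finset.mem_image.1 hu
        rw [Finset.mem_erase, hfin.mem_toFinset] at hx
        exact Finset.mem_filter.2 ⟨Finset.mem_univ _, (hF x hx.2.1 hx.2.2).2,
          hpair x₀ x hx₀ hx.2.1 hx₀r hx.2.2 hx.1.symm⟩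
      · rw [common_card _ _ (hF x₀ hx₀ hx₀r).2, Finset.card_image_of_injOn hinj,
          Finset.card_erase_of_mem (hfin.mem_toFinset.2 ⟨hx₀, hx₀r⟩),
          ← Set.ncard_eq_toFinset_card S hfin, hS, L.card_fibre]
    have : t ∈ (hfin.toFinset.erase x₀).image k := by
      rw [himg]; exact Finset.mem_filter.2 ⟨Finset.mem_univ _, ht⟩
    obtain ⟨x, hx, hxt⟩ := Finset.mem_image.1 this
    rw [Finset.mem_erase, hfin.mem_toFinset] at hx
    exact ⟨x, hx.2.1, hx.2.2, hxt⟩
  obtain ⟨x, hx, hxr, rfl⟩ := hex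
  refine ⟨x, ⟨hx, hxr, ((K.commute_iff c hc x (hF x hx hxr).1).2 hst).symm⟩, ?_⟩
  rintro y ⟨hy, hyr, hyc⟩
  by_contra hne
  rcases sees_all (hF y hy hyr).2 (hF x hx hxr).2 (hpair y x hy hx hyr hxr hne)
    ((K.commute_iff c hc y (hF y hy hyr).1).1 hyc.symm) hst with h | h
  exacts [hs1 h, hs2 h]

/-- equal to or at distance at most two in the commuting graph -/
def Near (a d : X) : Prop := IsConj a d ∧ (Commute d a ∨ ∃ w ∈ Perp a, Commute d w)

theorem near_refl (a : X) : Near a a := ⟨IsConj.refl a, Or.inl (Commute.refl a)⟩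

theorem near_of_perp {a x : X} (h : x ∈ Perp a) : Near a x := ⟨h.1, Or.inl h.2.2⟩

theorem near_symm {a d : X} (h : Near a d) : Near d a := by
  refine ⟨h.1.symm, ?_⟩
  rcases h.2 with h2 | ⟨w, hw, hdw⟩
  · exact Or.inl h2.symm
  by_cases hd : Commute d a
  · exact Or.inl hd.symm
  · exact Or.inr ⟨w, ⟨h.1.symm.trans hw.1, fun e => hd (e ▸ hw.2.2), hdw.symm⟩, hw.2.2.symm⟩

theorem near_conj (g : X) {a d : X} (h : Near a d) : Near (g * a * g⁻¹) (g * d * g⁻¹) := by
  refine ⟨(isConj_iff.2 ⟨g⁻¹, by group⟩ : IsConj (g * a * g⁻¹) a).trans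
    (h.1.trans (isConj_iff.2 ⟨g, rfl⟩)), ?_⟩
  rcases h.2 with h2 | ⟨w, hw, hdw⟩
  · exact Or.inl (commute_of_conj_eq g h2)
  · exact Or.inr ⟨g * w * g⁻¹, perp_conj g hw, commute_of_conj_eq g hdw⟩

theorem near_class {a d : X} (ha : IsConj z a) (h : Near a d) : IsConj z d := ha.trans h.1

theorem near_step (E : Views z) {a d e : X} (ha : IsConj z a) (hd : Near a d) (he : IsConj z e)
    (hde : Commute e d) : Near a e := by
  refine ⟨ha.symm.trans he, ?_⟩
  rcases hd.2 with h | ⟨w, hw, hdw⟩
  · by_cases h' : d = a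
    · exact Or.inl (h' ▸ hde)
    · exact Or.inr ⟨d, ⟨hd.1, h', h⟩, hde⟩
  by_cases hda : Commute d a
  · by_cases h' : d = a
    · exact Or.inl (h' ▸ hde)
    · exact Or.inr ⟨d, ⟨hd.1, h', hda⟩, hde⟩
  by_cases hew : Commute e w
  · exact Or.inr ⟨w, hw, hew⟩
  have hwz := perp_class ha hw
  have hdz := near_class ha hd
  obtain ⟨f, L⟩ := E w hwz
  have haw : a ∈ Perp w := perp_symm hw
  have hdw' : d ∈ Perp w := perp_of hwz hdz (fun h => hew (h ▸ hde)) hdw
  have hed : e ∈ Perp d := perp_of hdz he (fun h => hew (h ▸ hdw)) hde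
  obtain ⟨r, hr1, hr2⟩ := exists_common
    (fun h => hda ((L.commute_iff d hdw' a haw).2 (Or.inl h)))
    (fun h => hda ((L.commute_iff d hdw' a haw).2 (Or.inr h)))
  obtain ⟨x, ⟨hx, hxr, hxe⟩, -⟩ := grid E L hwz hdw' hed (fun h => hew h.symm) (adj_symm _ _ hr1)
  have hA : Adj (f x) (f a) := hxr ▸ adj_symm _ _ hr2
  exact Or.inr ⟨x, perp_of ha (perp_class hwz hx) (ne_of_adj hA) (commute_of_adj L hx haw hA),
    hxe.symm⟩

theorem near_trans (E : Views z) {a b c : X} (ha : IsConj z a) (h : Near a b) (h' : Near b c) :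
    Near a c := by
  have hb := near_class ha h
  have hc := near_class hb h'
  rcases h'.2 with h2 | ⟨w, hw, hcw⟩
  · exact near_step E ha h hc h2
  · exact near_step E ha (near_step E ha h (perp_class hb hw) hw.2.2) hc hcw

theorem near_braid (E : Views z) {a b : X} (ha : IsConj z a) (h : Near a b) (hc : ¬ Commute a b) :
    (a * b) ^ 3 = 1 := by
  rcases h.2 with h2 | ⟨w, hw, hbw⟩
  · exact absurd h2.symm hc
  have hwz := perp_class ha hw
  obtain ⟨f, L⟩ := E w hwz
  exact L.braid a (perp_symm hw) b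
    (perp_of hwz (near_class ha h) (fun e => hc (e ▸ hw.2.2.symm)) hbw) hc

theorem braid_eq (E : Views z) {a b : X} (ha : IsConj z a) (h : Near a b) (hc : ¬ Commute a b) :
    a * b * a = b * a * b := by
  have h3 := near_braid E ha h hc
  have hb := near_class ha h
  simp only [pow_succ, pow_zero, one_mul] at h3
  have h4 : a * b * a * (b * a * b) = 1 := by rw [← h3]; group
  have h5 : b * a * b * (b * a * b) = 1 := by
    simp only [mul_assoc]
    rw [← mul_assoc b b, mul_self_class E hb, one_mul, ← mul_assoc a a, mul_self_class E ha, one_mul,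
      mul_self_class E hb]
  exact mul_right_cancel (h4.trans h5.symm)

/-- a member commuting with the product of a commuting pair commutes with both -/
theorem split (E : Views z) {a b d : X} (ha : IsConj z a) (hb : b ∈ Perp a) (hd : Near a d)
    (h : Commute d (a * b)) : Commute d a ∧ Commute d b := by
  have hbz := perp_class ha hb
  have hdz := near_class ha hd
  have hab : Commute a b := hb.2.2.symm
  by_cases h1 : Commute d a
  · refine ⟨h1, ?_⟩
    have h' : Commute d (a * (a * b)) := h1.mul_right h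
    rwa [← mul_assoc, mul_self_class E ha, one_mul] at h'
  exfalso
  have h2 : ¬ Commute d b := fun h2 => h1 (by
    have h' : Commute d (a * b * b) := h.mul_right h2
    rwa [mul_assoc, mul_self_class E hbz, mul_one] at h')
  have hdd := mul_self_class E hdz
  have e1 : d * a * d = a * d * a :=
    (braid_eq E ha hd fun e => h1 e.symm).symm
  have e2 : d * b * d = b * d * b :=
    (braid_eq E hbz (near_trans E hbz (near_of_perp (perp_symm hb)) hd) fun e => h2 e.symm).symm
  have e3 : (d * a * d) * (d * b * d) = a * b := by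
    rw [show d * a * d * (d * b * d) = d * a * (d * d) * b * d by group, hdd, mul_one,
      mul_assoc d a b, h.eq, mul_assoc, hdd, mul_one]
  rw [e1, e2] at e3
  have e4 : d * (a * b) * d = 1 := by
    have e5 : a * (d * (a * b) * d) * b = a * 1 * b := by
      refine Eq.trans ?_ (e3.trans (by rw [mul_one]))
      group
    exact mul_left_cancel (mul_right_cancel e5)
  have e6 : a * b = 1 := by
    rw [h.eq, mul_assoc, hdd, mul_one] at e4
    exact e4
  exact hb.2.1 (mul_left_cancel (a := a) (by rw [e6, mul_self_class E ha]))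

/-- a product of two commuting members determines them, within a component -/
theorem pair_eq (E : Views z) {a b x y : X} (ha : IsConj z a) (hb : b ∈ Perp a) (hy : y ∈ Perp x)
    (hax : Near a x) (h : a * b = x * y) : (a = x ∧ b = y) ∨ (a = y ∧ b = x) := by
  have hxz := near_class ha hax
  have hyz := perp_class hxz hy
  have haa := mul_self_class E ha
  have hcab : Commute a (a * b) := (Commute.refl a).mul_right hb.2.2.symm
  obtain ⟨hx, hy'⟩ := split E hxz hy (near_symm hax) (h ▸ hcab)
  by_cases e1 : a = x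
  · subst e1; exact Or.inl ⟨rfl, mul_left_cancel h⟩
  by_cases e2 : a = y
  · subst e2
    refine Or.inr ⟨rfl, mul_left_cancel (a := a) ?_⟩
    rw [h]; exact hy.2.2.symm.eq
  exfalso
  have hxa : x ∈ Perp a := perp_of ha hxz (Ne.symm e1) hx.symm
  have hya : y ∈ Perp a := perp_of ha hyz (Ne.symm e2) hy'.symm
  refine triple_not E ha hxa hya hy.2.1.symm hy.2.2.symm ?_
  rw [mul_assoc, ← h, ← mul_assoc, haa, one_mul]
  exact perp_class ha hb

end H24.U6
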