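import Cfsg.Agent.H24.U6.Comp

/-!
A component of the commuting graph has 693 members.
-/

set_option autoImplicit false
set_option linter.unusedSectionVars false

namespace H24.U6

open H16.U6

variable {X : Type*} [Group X] {z : X}

theorem adj_count : ∀ p, (Finset.univ.filter fun r => ¬ (r = p ∨ Adj r p)).card = 32 := by
  decide +kernel

theorem finset_perp [Fintype X] [DecidablePred fun x : X => x ∈ Perp z] {f : X → Fin 45}
    (L : Loc z f) (R : Finset (Fin 45)) :
    ((Finset.univ.filter fun x => x ∈ Perp z).filter fun x => f x ∈ R).card = 4 * R.card := by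
  have hmaps : Set.MapsTo f
      ↑((Finset.univ.filter fun x => x ∈ Perp z).filter fun x => f x ∈ R) ↑R :=
    fun x hx => (Finset.mem_filter.1 (Finset.mem_coe.1 hx)).2
  rw [Finset.card_eq_sum_card_fiberwise hmaps,
    Finset.sum_const_nat (m := 4) (fun p hp => ?_), mul_comm]
  rw [← L.card_fibre p, ← Set.ncard_coe_finset]
  congr 1
  ext x
  simp only [Finset.coe_filter, Finset.mem_filter, Finset.mem_univ, true_and, Set.mem_ofPred_eq]
  constructor
  · rintro ⟨⟨h1, -⟩, h2⟩; exact ⟨h1, h2⟩
  · rintro ⟨h1, h2⟩; exact ⟨⟨h1, h2 ▸ hp⟩, h2⟩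

/-- over each point exactly one common neighbour of `a` and a member at distance two -/
theorem one_per_point (E : Views z) {a d : X} {f : X → Fin 45} (L : Loc a f) (ha : IsConj z a)
    (hd : Near a d) (hc : ¬ Commute d a) (r : Fin 45) :
    ∃! x, x ∈ Perp a ∧ f x = r ∧ Commute x d := by
  rcases hd.2 with h | ⟨w, hw, hdw⟩
  · exact absurd h hc
  have hdz := near_class ha hd
  have key : ∀ (b : X), b ∈ Perp a → Commute b d → ∀ r, Adj r (f b) →
      ∃! x, x ∈ Perp a ∧ f x = r ∧ Commute x d := fun b hb hbd r hr =>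
    grid E L ha hb (perp_of (perp_class ha hb) hdz (fun e => hc (e ▸ hb.2.2)) hbd.symm)
      (fun e => hc e.symm) hr
  have hex : ∀ r, ∃ x, x ∈ Perp a ∧ f x = r ∧ Commute x d := by
    intro r
    by_cases h1 : Adj r (f w)
    · exact (key w hw hdw.symm r h1).exists
    by_cases h2 : r = f w
    · exact ⟨w, hw, h2.symm, hdw.symm⟩
    obtain ⟨s, hs1, hs2⟩ := exists_common h2 h1
    obtain ⟨x, ⟨hx, hxs, hxd⟩, -⟩ := key w hw hdw.symm s (adj_symm _ _ hs2)
    exact (key x hx hxd r (hxs ▸ hs1)).exists
  obtain ⟨s, hs⟩ := exists_nbr r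
  obtain ⟨b, hb, hbs, hbd⟩ := hex s
  exact key b hb hbd r (hbs ▸ hs)

theorem near_ncard [Finite X] (E : Views z) {a : X} (ha : IsConj z a) :
    {d | Near a d}.ncard = 693 := by
  classical
  haveI := Fintype.ofFinite X
  obtain ⟨f, L⟩ := E a ha
  set N := Finset.univ.filter fun x => x ∈ Perp a with hN
  set D := Finset.univ.filter fun d => Near a d ∧ ¬ Commute d a with hD
  have hNm : ∀ x, x ∈ N ↔ x ∈ Perp a := fun x => by simp [hN]
  have hDm : ∀ x, x ∈ D ↔ Near a x ∧ ¬ Commute x a := fun x => by simp [hD]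
  have hcN : N.card = 180 := by
    have := finset_perp L Finset.univ
    simpa [← hN] using this
  have hrow : ∀ d ∈ D, (Finset.bipartiteBelow (fun x d => Commute x d) N d).card = 45 := by
    intro d hd
    rw [Finset.card_bij (t := (Finset.univ : Finset (Fin 45))) (fun x _ => f x) ?_ ?_ ?_]
    · simp
    · exact fun x _ => Finset.mem_univ _
    · intro x hx y hy e
      simp only [Finset.bipartiteBelow, Finset.mem_filter, hNm] at hx hy
      exact (one_per_point E L ha ((hDm d).1 hd).1 ((hDm d).1 hd).2 (f x)).unique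
        ⟨hx.1, rfl, hx.2⟩ ⟨hy.1, e.symm, hy.2⟩
    · intro r _
      obtain ⟨x, hx, hxr, hxd⟩ := (one_per_point E L ha ((hDm d).1 hd).1 ((hDm d).1 hd).2 r).exists
      exact ⟨x, by simp [Finset.bipartiteBelow, hNm, hx, hxd], hxr⟩
  have hcol : ∀ b ∈ N, (Finset.bipartiteAbove (fun x d => Commute x d) D b).card = 128 := by
    intro b hb
    have hb' := (hNm b).1 hb
    obtain ⟨k, K⟩ := E b (perp_class ha hb')
    have hab : a ∈ Perp b := perp_symm hb'
    have he : Finset.bipartiteAbove (fun x d => Commute x d) D b =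
        (Finset.univ.filter fun x => x ∈ Perp b).filter
          (fun x => k x ∈ Finset.univ.filter fun r => ¬ (r = k a ∨ Adj r (k a))) := by
      ext d
      simp only [Finset.bipartiteAbove, Finset.mem_filter, hDm, Finset.mem_univ, true_and]
      constructor
      · rintro ⟨⟨hd, hc⟩, hbd⟩
        have hdb : d ∈ Perp b :=
          perp_of (perp_class ha hb') (near_class ha hd) (fun e => hc (e ▸ hb'.2.2)) hbd.symm
        exact ⟨hdb, fun e => hc ((K.commute_iff d hdb a hab).2 e)⟩
      · rintro ⟨hdb, hn⟩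
        refine ⟨⟨⟨ha.symm.trans (perp_class (perp_class ha hb') hdb), Or.inr ⟨b, hb', hdb.2.2⟩⟩,
          fun e => hn ((K.commute_iff d hdb a hab).1 e)⟩, hdb.2.2.symm⟩
    rw [he, finset_perp K, adj_count]
  have hdc := Finset.sum_card_bipartiteAbove_eq_sum_card_bipartiteBelow
    (fun x d : X => Commute x d) (s := N) (t := D)
  rw [Finset.sum_const_nat hcol, Finset.sum_const_nat hrow, hcN] at hdc
  have hset : {d | Near a d} = ↑(insert a (N ∪ D)) := by
    ext d
    simp only [Set.mem_ofPred_eq, Finset.coe_insert, Finset.coe_union, Set.mem_insert_iff,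
      Set.mem_union, Finset.mem_coe, hNm, hDm]
    constructor
    · intro hd
      by_cases hc : Commute d a
      · by_cases hda : d = a
        · exact Or.inl hda
        · exact Or.inr (Or.inl ⟨hd.1, hda, hc⟩)
      · exact Or.inr (Or.inr ⟨hd, hc⟩)
    · rintro (rfl | h | h)
      exacts [near_refl d, near_of_perp h, h.1]
  rw [hset, Set.ncard_coe_finset, Finset.card_insert_of_notMem, Finset.card_union_of_disjoint, hcN]
  · omega
  · rw [Finset.disjoint_left]
    intro x hx hx'
    exact ((hDm x).1 hx').2 ((hNm x).1 hx).2.2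
  · rw [Finset.mem_union, hNm, hDm]
    rintro (h | h)
    exacts [h.2.1 rfl, h.2 (Commute.refl a)]

end H24.U6
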