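import Cfsg.Agent.H16.Fi24.U6Loc

/-!
Facts about the 45 points of the unitary polar graph in dimension four over four elements: a point
outside a line sees exactly one point of it, and the graph has diameter two.
-/

set_option autoImplicit false
set_option maxRecDepth 100000

namespace H24.U6

open H16.U6

/-- the closed neighbourhood of a point -/
def closedMask (p : Fin 45) : ℕ := adjMask p ||| 2 ^ p.val

theorem mask_lt : ∀ p, adjMask p < 2 ^ 45 := by decide +kernel

theorem nbhd_facts : (∀ p q, closedMask p ||| closedMask q = closedMask q → p = q) ∧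
    (∀ p, closedMask p ≠ 2 ^ 45 - 1) ∧ (∀ p, adjMask p ≠ 0) := by decide +kernel

theorem diam_mask : ∀ p q, p ≠ q → (adjMask p).testBit q.val = false →
    adjMask p &&& adjMask q ≠ 0 := by decide +kernel

theorem common_card : ∀ q r, Adj q r →
    (Finset.univ.filter fun t => Adj q t ∧ Adj r t).card = 3 := by decide +kernel

theorem meet_mask : ∀ q r, Adj q r → ∀ s, (closedMask s).testBit q.val = false →
    closedMask s &&& (2 ^ r.val ||| (adjMask q &&& adjMask r)) ≠ 0 := by decide +kernel

theorem two_mask : ∀ q t, Adj q t → ∀ t', Adj q t' → Adj t t' →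
    (closedMask t &&& closedMask t') ||| closedMask q = closedMask q := by decide +kernel

theorem exists_bit {m : ℕ} (hm : m < 2 ^ 45) (h : m ≠ 0) : ∃ t : Fin 45, m.testBit t.val = true := by
  by_contra hc
  push Not at hc
  refine h (Nat.eq_of_testBit_eq fun i => ?_)
  rw [Nat.zero_testBit]
  rcases Nat.lt_or_ge i 45 with hi | hi
  · simpa using hc ⟨i, hi⟩
  · exact Nat.testBit_lt_two_pow (lt_of_lt_of_le hm (Nat.pow_le_pow_right two_pos hi))

theorem closed_bit {s t : Fin 45} : (closedMask s).testBit t.val = true ↔ s = t ∨ Adj s t := by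
  simp only [closedMask, Nat.testBit_or, Nat.testBit_two_pow, Bool.or_eq_true,
    decide_eq_true_eq, Fin.val_inj, Adj]
  exact or_comm

theorem closed_lt (p : Fin 45) : closedMask p < 2 ^ 45 :=
  Nat.or_lt_two_pow (mask_lt p) (Nat.pow_lt_pow_right (by norm_num) p.isLt)

/-- points with the same neighbours are equal -/
theorem eq_of_sub {p q : Fin 45} (h : ∀ r, r = p ∨ Adj r p → r = q ∨ Adj r q) : p = q := by
  refine nbhd_facts.1 p q (Nat.eq_of_testBit_eq fun i => ?_)
  rw [Nat.testBit_or]
  rcases Bool.eq_false_or_eq_true ((closedMask p).testBit i) with hp | hp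
  swap
  · rw [hp, Bool.false_or]
  rw [hp, Bool.true_or]
  have hi : i < 45 := by
    by_contra hi
    have hlt : closedMask p < 2 ^ i :=
      lt_of_lt_of_le (closed_lt p) (Nat.pow_le_pow_right two_pos (by omega))
    rw [Nat.testBit_lt_two_pow hlt] at hp
    exact absurd hp (by simp)
  have h2 := (closed_bit (t := ⟨i, hi⟩)).1 hp
  refine ((closed_bit (t := ⟨i, hi⟩)).2 ?_).symm
  rcases h ⟨i, hi⟩ (h2.imp Eq.symm (adj_symm _ _)) with h3 | h3
  · exact Or.inl h3.symm
  · exact Or.inr (adj_symm _ _ h3)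

theorem exists_nbr (p : Fin 45) : ∃ r, Adj p r := exists_bit (mask_lt p) (nbhd_facts.2.2 p)

theorem exists_far (p : Fin 45) : ∃ r, r ≠ p ∧ ¬ Adj p r := by
  by_contra hc
  push Not at hc
  refine nbhd_facts.2.1 p (Nat.eq_of_testBit_eq fun i => ?_)
  rcases Nat.lt_or_ge i 45 with hi | hi
  · rw [Nat.testBit_two_pow_sub_one, decide_eq_true hi]
    refine (closed_bit (t := ⟨i, hi⟩)).2 ?_
    by_cases he : (⟨i, hi⟩ : Fin 45) = p
    · exact Or.inl he.symm
    · exact Or.inr (hc _ he)
  · rw [Nat.testBit_two_pow_sub_one, decide_eq_false (by omega)]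
    exact Nat.testBit_lt_two_pow
      (lt_of_lt_of_le (closed_lt p) (Nat.pow_le_pow_right two_pos hi))

theorem exists_common {p q : Fin 45} (hne : p ≠ q) (h : ¬ Adj p q) : ∃ r, Adj p r ∧ Adj q r := by
  obtain ⟨r, hr⟩ := exists_bit (lt_of_le_of_lt Nat.and_le_left (mask_lt p))
    (diam_mask p q hne (Bool.not_eq_true _ ▸ h))
  simp only [Nat.testBit_and, Bool.and_eq_true] at hr
  exact ⟨r, hr⟩

/-- a point outside a line sees a point of the line -/
theorem exists_meet {q r s : Fin 45} (hqr : Adj q r) (hne : s ≠ q) (h : ¬ Adj s q) :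
    ∃ t, (t = r ∨ (Adj q t ∧ Adj r t)) ∧ (s = t ∨ Adj s t) := by
  have hb : (closedMask s).testBit q.val = false := by
    rw [← Bool.not_eq_true, closed_bit]
    exact fun h2 => h2.elim hne h
  obtain ⟨t, ht⟩ := exists_bit (lt_of_le_of_lt Nat.and_le_left (closed_lt s)) (meet_mask q r hqr s hb)
  simp only [Nat.testBit_and, Nat.testBit_or, Bool.and_eq_true, Bool.or_eq_true,
    Nat.testBit_two_pow, decide_eq_true_eq, Fin.val_inj] at ht
  refine ⟨t, ?_, closed_bit.1 ht.1⟩
  rcases ht.2 with h1 | h1
  · exact Or.inl h1.symm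
  · exact Or.inr h1

/-- a point seeing two points of a line sees all -/
theorem sees_all {q t t' s : Fin 45} (h1 : Adj q t) (h2 : Adj q t') (h3 : Adj t t')
    (hs : s = t ∨ Adj s t) (hs' : s = t' ∨ Adj s t') : s = q ∨ Adj s q := by
  have h := two_mask q t h1 t' h2 h3
  have hb : ((closedMask t &&& closedMask t') ||| closedMask q).testBit s.val = true := by
    rw [Nat.testBit_or, Nat.testBit_and, closed_bit.2 (hs.imp Eq.symm (adj_symm _ _)),
      closed_bit.2 (hs'.imp Eq.symm (adj_symm _ _))]
    rfl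
  rw [h] at hb
  exact (closed_bit.1 hb).imp Eq.symm (adj_symm _ _)

end H24.U6
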