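import Cfsg.Agent.H24.U6.Cent
import Cfsg.Prelude.Def_SporadicB

/-!
A group with the local data of the unitary group in dimension six has one component: 693 members
which form a class of 3-transpositions.
-/

set_option autoImplicit false
set_option linter.unusedSectionVars false

namespace H24.U6

open H16.U6

variable {X : Type*} [Group X] [Finite X] {z : X}

/-- every product of a commuting pair fixes every component -/
theorem pair_inM (E : Views z) {q a b : X} (hq : IsConj z q) (ha : IsConj z a) (hb : b ∈ Perp a) :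
    InM q (a * b) := by
  have hbz := perp_class ha hb
  by_cases hc : Commute (a * b) q
  · exact inM_fix E hq (near_refl q) hc
  have tt : a * b * (a * b) = 1 := by
    rw [mul_assoc, ← mul_assoc b a b, hb.2.2.eq, mul_assoc a b b, mul_self_class E hbz, mul_one,
      mul_self_class E ha]
  obtain ⟨w, -, hwq, hwc, htw, g, -, hgw⟩ := dihedral (⊤ : Subgroup X) (Subgroup.mem_top q)
    (Subgroup.mem_top (a * b)) (mul_self_class E hq) tt (fun g _ e => pair_not E ha hb
      (hq.trans (isConj_iff.2 ⟨g⁻¹, by rw [← e]; group⟩)))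
  rcases hgw with h | h
  · have hwz : IsConj z w := hq.trans (isConj_iff.2 ⟨g, h⟩)
    exact inM_pair E hq (perp_of hq hwz hwq hwc) htw
  set a' := g * a * g⁻¹ with ha'
  set b' := g * b * g⁻¹ with hb'
  have hw : w = a' * b' := by rw [← h, ha', hb']; group
  have haz : IsConj z a' := ha.trans (isConj_iff.2 ⟨g, rfl⟩)
  have hbp : b' ∈ Perp a' := perp_conj g hb
  have hn : Near a' q := near_of_inM E haz hq (inM_pair E haz hbp (hw ▸ hwc.symm))
  obtain ⟨qa, qb⟩ := split E haz hbp hn (hw ▸ hwc.symm)
  have hab : Near q a' := near_symm hn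
  by_cases e1 : q = a'
  · refine inM_fix E hq (near_trans E hq hab (near_of_perp hbp)) ?_
    have : q * w = b' := by
      rw [hw, ← e1, ← mul_assoc, mul_self_class E hq, one_mul]
    exact this ▸ htw
  by_cases e2 : q = b'
  · refine inM_fix E hq hab ?_
    have : q * w = a' := by
      rw [hw, ← hbp.2.2.eq, ← e2, ← mul_assoc, mul_self_class E hq, one_mul]
    exact this ▸ htw
  refine inM_triple E hq (perp_of hq haz (Ne.symm e1) qa.symm)
    (perp_of hq (perp_class haz hbp) (Ne.symm e2) qb.symm) hbp.2.1.symm hbp.2.2.symm ?_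
  rw [mul_assoc, ← hw]
  exact htw

/-- there is only one component -/
theorem near_all (E : Views z) {q : X} (hq : IsConj z q) : Near q z := by
  obtain ⟨f, L⟩ := E z (IsConj.refl z)
  obtain ⟨b, hb, -⟩ := L.surj 0
  obtain ⟨c, ⟨hc, hcb⟩, hne⟩ := Set.exists_ne_of_one_lt_ncard
    (s := {x ∈ Perp z | f x = f b}) (by rw [L.card_fibre]; norm_num) b
  obtain ⟨u, v, hu, hv, hub, hvb, huv, -, -, -, -, h5, -⟩ := exists_rest L hb hc hne.symm hcb.symm
  have hz := IsConj.refl z
  refine near_of_inM E hq hz ?_
  rw [← h5, mul_assoc]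
  refine inM_mul E hq
    (pair_inM E hq (perp_class hz hb) (perp_of (perp_class hz hb) (perp_class hz hc) hne
      ((L.commute_iff c hc b hb).2 (Or.inl hcb))))
    (pair_inM E hq (perp_class hz hu) (perp_of (perp_class hz hu) (perp_class hz hv) huv.symm
      ((L.commute_iff v hv u hu).2 (Or.inl (hvb.trans hub.symm)))))

theorem mem_cls {a d : X} : d ∈ conjugatesOf a ↔ IsConj a d := Iff.rfl

theorem class_eq (E : Views z) {a : X} (ha : IsConj z a) : conjugatesOf z = {d | Near a d} := by
  ext d
  rw [mem_cls]
  exact ⟨fun hd => near_trans E ha (near_all E ha) (near_symm (near_all E hd)),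
    fun hd => near_class ha hd⟩

theorem class_ncard (E : Views z) : (conjugatesOf z).ncard = 693 := by
  rw [class_eq E (IsConj.refl z)]
  exact near_ncard E (IsConj.refl z)

theorem card_eq (E : Views z) : Nat.card X = 693 * (2 ^ 9 * 25920) := by
  obtain ⟨f, L⟩ := E z (IsConj.refl z)
  rw [← L.card_centralizer, ← class_ncard E]
  have h := Nat.card_congr (MulAction.orbitEquivQuotientStabilizer (ConjAct X) z)
  rw [ConjAct.orbit_eq_carrier_conjClasses, ← Subgroup.index_eq_card] at h
  have h2 : Nat.card (ConjClasses.mk z).carrier = (conjugatesOf z).ncard := by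
    rw [← Nat.card_coe_set_eq]; rfl
  rw [h2] at h
  have e : ConjAct.toConjAct.symm.toMonoidHom.range = (⊤ : Subgroup X) :=
    MonoidHom.range_eq_top.2 (MulEquiv.surjective _)
  have h3 : Nat.card (MulAction.stabilizer (ConjAct X) z) =
      Nat.card (Subgroup.centralizer ({z} : Set X)) := by
    refine Nat.card_congr
      { toFun := fun u => ⟨ConjAct.ofConjAct u.1, ?_⟩
        invFun := fun u => ⟨ConjAct.toConjAct u.1, ?_⟩
        left_inv := fun u => Subtype.ext (by simp)
        right_inv := fun u => Subtype.ext (by simp) }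
    · have := u.2
      rw [MulAction.mem_stabilizer_iff, ConjAct.smul_def, mul_inv_eq_iff_eq_mul] at this
      exact Subgroup.mem_centralizer_singleton_iff.2 this
    · rw [MulAction.mem_stabilizer_iff, ConjAct.smul_def, ConjAct.ofConjAct_toConjAct,
        mul_inv_eq_iff_eq_mul]
      exact Subgroup.mem_centralizer_singleton_iff.1 u.2
  rw [h, ← h3, mul_comm, Subgroup.card_mul_index]
  rfl

theorem exists_noncommute (E : Views z) {d : X} (hd : IsConj z d) :
    ∃ y, IsConj z y ∧ ¬ Commute z y ∧ ¬ Commute y d := by
  classical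
  have hz := IsConj.refl z
  have key : ∀ a, IsConj z a → {y | IsConj z y ∧ Commute y a}.ncard ≤ 181 := by
    intro a ha
    haveI := Fintype.ofFinite X
    obtain ⟨f, L⟩ := E a ha
    have hsub : {y | IsConj z y ∧ Commute y a} ⊆
        ↑(insert a (Finset.univ.filter fun x => x ∈ Perp a)) := by
      rintro y ⟨h1, h2⟩
      simp only [Finset.coe_insert, Set.mem_insert_iff, Finset.coe_filter, Finset.mem_univ, true_and,
        Set.mem_ofPred_eq]
      by_cases e : y = a
      · exact Or.inl e
      · exact Or.inr (perp_of ha h1 e h2)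
    refine (Set.ncard_le_ncard hsub).trans ?_
    rw [Set.ncard_coe_finset]
    refine (Finset.card_insert_le _ _).trans ?_
    have h := finset_perp L Finset.univ
    simp only [Finset.mem_univ, Finset.filter_true, Finset.card_univ, Fintype.card_fin] at h
    omega
  by_contra hn
  push Not at hn
  have hsub : conjugatesOf z ⊆ {y | IsConj z y ∧ Commute y z} ∪ {y | IsConj z y ∧ Commute y d} := by
    intro y hy
    have hy' := mem_cls.1 hy
    by_cases e : Commute z y
    · exact Or.inl ⟨hy', e.symm⟩
    · exact Or.inr ⟨hy', hn y hy' e⟩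
  have := (Set.ncard_le_ncard hsub).trans (Set.ncard_union_le _ _)
  rw [class_ncard E] at this
  have := key z hz
  have := key d hd
  omega

theorem closure_class (E : Views z) : Subgroup.closure (conjugatesOf z) = ⊤ := by
  classical
  obtain ⟨f, L⟩ := E z (IsConj.refl z)
  set S := Subgroup.closure (conjugatesOf z) with hS
  have hmem : ∀ d, IsConj z d → d ∈ S := fun d hd =>
    Subgroup.subset_closure (mem_cls.2 hd)
  have hC : Subgroup.centralizer ({z} : Set X) ≤ S := by
    rw [← L.closure_perp, Subgroup.closure_le]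
    exact fun x hx => hmem x hx.1
  have hconj : ∀ a, IsConj z a → ∀ b, Near a b → ¬ Commute a b →
      b = (a * b) * a * (a * b)⁻¹ := by
    intro a ha b hb hc
    have e := braid_eq E ha hb hc
    rw [mul_inv_rev, inv_eq_of_mul_eq_one_right (mul_self_class E ha),
      inv_eq_of_mul_eq_one_right (mul_self_class E (near_class ha hb)),
      show a * b * a * (b * a) = a * b * a * b * a by group, e,
      show b * a * b * b * a = b * a * (b * b) * a by group,
      mul_self_class E (near_class ha hb), mul_one, mul_assoc, mul_self_class E ha, mul_one]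
  -- an element carrying `z` to a given member
  have htrans : ∀ d, IsConj z d → ∃ s ∈ S, s * z * s⁻¹ = d := by
    intro d hd
    have hdn : Near z d := near_symm (near_all E hd)
    by_cases hc : Commute z d
    · by_cases he : d = z
      · exact ⟨1, one_mem _, by simp [he]⟩
      obtain ⟨y, hy, hy1, hy2⟩ := exists_noncommute E hd
      have hyn : Near z y := near_symm (near_all E hy)
      have hyd : Near y d := near_trans E hy (near_symm hyn) hdn
      refine ⟨y * d * (z * y), mul_mem (mul_mem (hmem y hy) (hmem d hd))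
        (mul_mem (hmem z (IsConj.refl z)) (hmem y hy)), ?_⟩
      rw [show y * d * (z * y) * z * (y * d * (z * y))⁻¹ =
          y * d * (z * y * z * (z * y)⁻¹) * (y * d)⁻¹ by group,
        ← hconj z (IsConj.refl z) y hyn hy1, ← hconj y hy d hyd hy2]
    · exact ⟨z * d, mul_mem (hmem z (IsConj.refl z)) (hmem d hd), (hconj z (IsConj.refl z) d hdn hc).symm⟩
  rw [eq_top_iff]
  intro g _
  obtain ⟨s, hs, hsz⟩ := htrans (g * z * g⁻¹) (isConj_iff.2 ⟨g, rfl⟩)
  have : s⁻¹ * g ∈ S := hC (Subgroup.mem_centralizer_singleton_iff.2 (by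
    have h2 := congrArg (fun u => s⁻¹ * u * g) hsz
    simpa [mul_assoc] using h2.symm))
  simpa using mul_mem hs this

theorem three_transposition (E : Views z) :
    Cfsg.IsThreeTranspositionClass (conjugatesOf z) := by
  refine ⟨⟨fun d hd => ?_, fun d hd e he => ?_⟩, ⟨z, mem_conjugatesOf_self, rfl⟩, closure_class E⟩
  · have hd' := mem_cls.1 hd
    exact orderOf_eq_prime (by rw [pow_two]; exact mul_self_class E hd') (ne_one_class E hd')
  · have hd' := mem_cls.1 hd
    have he' := mem_cls.1 he
    by_cases hc : Commute d e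
    · left
      rw [pow_two, mul_assoc, ← mul_assoc e d e, ← hc.eq, mul_assoc d e e, mul_self_class E he',
        mul_one, mul_self_class E hd']
    · exact Or.inr (near_braid E hd'
        (near_trans E hd' (near_all E hd') (near_symm (near_all E he'))) hc)

theorem perfect (E : Views z) : commutator X = ⊤ := by
  obtain ⟨f, L⟩ := E z (IsConj.refl z)
  have hz := IsConj.refl z
  have hpair : ∀ a b, IsConj z a → IsConj z b → a * b ∈ commutator X := by
    intro a b ha hb
    obtain ⟨g, rfl⟩ := isConj_iff.1 (ha.symm.trans hb)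
    have haa : a⁻¹ = a := inv_eq_of_mul_eq_one_right (mul_self_class E ha)
    have h : a * g * a⁻¹ * g⁻¹ ∈ commutator X :=
      Subgroup.commutator_mem_commutator (Subgroup.mem_top a) (Subgroup.mem_top g)
    rwa [haa, show a * g * a * g⁻¹ = a * (g * a * g⁻¹) by group] at h
  obtain ⟨b, hb, -⟩ := L.surj 0
  obtain ⟨c, ⟨hc, hcb⟩, hne⟩ := Set.exists_ne_of_one_lt_ncard
    (s := {x ∈ Perp z | f x = f b}) (by rw [L.card_fibre]; norm_num) b
  obtain ⟨u, v, hu, hv, -, -, -, -, -, -, -, h5, -⟩ := exists_rest L hb hc hne.symm hcb.symm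
  have hzmem : z ∈ commutator X := by
    rw [← h5, mul_assoc]
    exact mul_mem (hpair b c hb.1 hc.1) (hpair u v hu.1 hv.1)
  rw [eq_top_iff, ← closure_class E, Subgroup.closure_le]
  intro d hd
  have h := mul_mem hzmem (hpair z d hz (mem_cls.1 hd))
  rwa [← mul_assoc, mul_self_class E hz, one_mul] at h

end H24.U6
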